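import Cfsg.Agent.Lib.CoprimeBase.Data.Models

/-!
A pair of vectors for the extraspecial group of minus type on eight coordinates over three elements, with the list of
the possible elements of its stabiliser.
-/

set_option autoImplicit false

namespace Cfsg.Lib.CoprimeBase.Cert

/-- The certificate. -/
def minusThreeData0 : Data :=
  ⟨2167312, 536941057, [[[(5, 2)], [(4, 1)], [(7, 2)], [(6, 1)], [(1, 1)], [(0, 2)], [(3, 1)], [(2, 2)]], [[(0, 2), (1, 2)], [(0, 2), (1, 1)], [(2, 1), (3, 1)], [(2, 1), (3, 2)], [(4, 2), (5, 2)], [(4, 2), (5, 1)], [(6, 1), (7, 1)], [(6, 1), (7, 2)]], [[(5, 1)], [(4, 2)], [(7, 2)], [(6, 1)], [(1, 2)], [(0, 1)], [(3, 1)], [(2, 2)]]],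
    [[⟨2167312, [0, 0], [1, 0, 0, 0, 0, 0, 0, 0]⟩],
    [⟨536941057, [], [1, 2, 0, 2, 0, 0, 0, 0]⟩, ⟨2167312, [1, 0], [0, 0, 0, 2, 0, 0, 0, 0]⟩, ⟨2167312, [0, 1], [0, 0, 0, 1, 0, 0, 0, 0]⟩, ⟨2167312, [1, 1], [2, 0, 0, 0, 0, 0, 0, 0]⟩],
    [⟨2167312, [2, 2], [1, 0, 0, 0, 0, 0, 0, 0]⟩, ⟨2167312, [2, 0], [0, 0, 0, 0, 0, 1, 0, 0]⟩, ⟨2167312, [2, 1], [0, 0, 0, 0, 0, 0, 2, 0]⟩, ⟨2167312, [0, 2], [0, 0, 0, 0, 0, 1, 0, 0]⟩, ⟨2167312, [1, 2], [0, 0, 0, 0, 0, 0, 1, 0]⟩]],
    [[1, 0, 2, 1, 0, 2, 1, 2], [1, 1, 0, 2, 2, 2, 2, 0], [1, 0, 2, 0, 0, 1, 0, 1], [0, 0, 2, 0, 0, 0, 0, 1], [1, 1, 1, 0, 2, 2, 0, 1], [0, 2, 1, 2, 1, 0, 2, 1], [0, 0, 0, 1, 0, 0, 2, 0], [0, 2, 0, 2, 2, 0, 1, 0]],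
    [[16777472, 553656576, 2228226, 1048594, 570429696, 268443648, 1114114, 2097170], [570429696, 301998336, 131089, 2097185, 16777472, 268439552, 131106, 2097170], [65536, 2162688, 4352, 8192, 1, 33, 570425344, 268435456]],
    [[2, 2, 0, 0, 2, 2, 0, 0], [1, 1, 0, 0, 2, 2, 0, 0], [2, 0, 0, 2, 0, 1, 2, 0], [1, 0, 0, 1, 0, 1, 2, 0], [1, 0, 0, 2, 0, 2, 2, 0], [2, 0, 0, 1, 0, 2, 2, 0], [2, 1, 0, 0, 1, 2, 0, 0], [1, 2, 0, 0, 1, 2, 0, 0]]⟩

theorem minusThreeData0_part0 : checkPart minusThree minusThreeData0 0 = true := by decide +kernel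

theorem minusThreeData0_part1 : checkPart minusThree minusThreeData0 1 = true := by decide +kernel

theorem minusThreeData0_part2 : checkPart minusThree minusThreeData0 2 = true := by decide +kernel

theorem minusThreeData0_part3 : checkPart minusThree minusThreeData0 3 = true := by decide +kernel

theorem minusThreeData0_part4 : checkPart minusThree minusThreeData0 4 = true := by decide +kernel

theorem minusThreeData0_part5 : checkPart minusThree minusThreeData0 5 = true := by decide +kernel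

theorem minusThreeData0_part6 : checkPart minusThree minusThreeData0 6 = true := by decide +kernel

theorem minusThreeData0_part7 : checkPart minusThree minusThreeData0 7 = true := by decide +kernel

theorem minusThreeData0_check : checkAll minusThree minusThreeData0 8 = true :=
  checkAll_of minusThree (by decide +kernel) (by decide +kernel) fun i hi =>
    match i, hi with
    | 0, _ => minusThreeData0_part0
    | 1, _ => minusThreeData0_part1
    | 2, _ => minusThreeData0_part2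
    | 3, _ => minusThreeData0_part3
    | 4, _ => minusThreeData0_part4
    | 5, _ => minusThreeData0_part5
    | 6, _ => minusThreeData0_part6
    | 7, _ => minusThreeData0_part7
    | j + 8, h => absurd h (by omega)

theorem minusThreeData0_regular : (regular minusThree minusThreeData0.v && canonB minusThree minusThreeData0.w) = true := by decide +kernel

end Cfsg.Lib.CoprimeBase.Cert
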