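import Cfsg.Agent.Lib.CoprimeBase.Data.Models

/-!
A pair of vectors for the extraspecial group of minus type on eight coordinates over three elements, with the list of
the possible elements of its stabiliser.
-/

set_option autoImplicit false

namespace Cfsg.Lib.CoprimeBase.Cert

/-- The certificate. -/
def minusThreeData1 : Data :=
  ⟨285212945, 572653824, [[[(2, 1), (3, 2)], [(2, 2), (3, 2)], [(0, 2), (1, 1)], [(0, 1), (1, 1)], [(6, 1), (7, 2)], [(6, 2), (7, 2)], [(4, 2), (5, 1)], [(4, 1), (5, 1)]], [[(0, 2), (1, 2)], [(0, 2), (1, 1)], [(2, 2), (3, 2)], [(2, 2), (3, 1)], [(4, 1), (5, 1)], [(4, 1), (5, 2)], [(6, 1), (7, 1)], [(6, 1), (7, 2)]], [[(0, 1), (1, 1)], [(0, 1), (1, 2)], [(2, 1), (3, 1)], [(2, 1), (3, 2)], [(4, 1), (5, 1)], [(4, 1), (5, 2)], [(6, 1), (7, 1)], [(6, 1), (7, 2)]]],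
    [[⟨285212945, [0, 0], [1, 0, 0, 0, 0, 0, 0, 0]⟩],
    [⟨572653824, [], [2, 1, 0, 2, 0, 0, 0, 0]⟩, ⟨285212945, [1, 0], [0, 0, 0, 2, 0, 0, 0, 0]⟩, ⟨285212945, [0, 1], [0, 0, 0, 1, 0, 0, 0, 0]⟩, ⟨285212945, [1, 1], [2, 0, 0, 0, 0, 0, 0, 0]⟩],
    [⟨285212945, [2, 2], [2, 0, 0, 0, 0, 0, 0, 0]⟩, ⟨285212945, [2, 0], [0, 0, 0, 0, 0, 2, 0, 0]⟩, ⟨285212945, [2, 1], [0, 0, 0, 0, 0, 0, 1, 0]⟩, ⟨285212945, [0, 2], [0, 0, 0, 0, 0, 1, 0, 0]⟩, ⟨285212945, [1, 2], [0, 0, 0, 0, 0, 0, 1, 0]⟩]],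
    [[0, 1, 1, 1, 2, 2, 0, 1], [1, 0, 2, 1, 1, 2, 1, 0], [1, 2, 0, 1, 0, 2, 1, 2], [2, 2, 2, 0, 1, 0, 2, 2], [0, 2, 0, 2, 0, 2, 0, 1], [0, 2, 0, 0, 0, 0, 0, 1], [0, 0, 1, 0, 1, 0, 0, 0], [2, 0, 2, 0, 2, 0, 1, 0]],
    [[33619968, 537919488, 572653568, 303169536, 8706, 4640, 8705, 4624], [2, 18, 256, 8448, 131072, 1179648, 33554432, 301989888], [16908288, 554827776, 572653568, 269484032, 4353, 8225, 4354, 8210]],
    [[0, 0, 2, 2, 2, 2, 0, 0], [0, 0, 1, 1, 2, 2, 0, 0], [2, 0, 0, 2, 0, 1, 2, 0], [1, 0, 0, 1, 0, 1, 2, 0], [2, 0, 0, 1, 0, 2, 2, 0], [1, 0, 0, 2, 0, 2, 2, 0], [0, 0, 1, 2, 1, 2, 0, 0], [0, 0, 2, 1, 1, 2, 0, 0]]⟩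

theorem minusThreeData1_part0 : checkPart minusThree minusThreeData1 0 = true := by decide +kernel

theorem minusThreeData1_part1 : checkPart minusThree minusThreeData1 1 = true := by decide +kernel

theorem minusThreeData1_part2 : checkPart minusThree minusThreeData1 2 = true := by decide +kernel

theorem minusThreeData1_part3 : checkPart minusThree minusThreeData1 3 = true := by decide +kernel

theorem minusThreeData1_part4 : checkPart minusThree minusThreeData1 4 = true := by decide +kernel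

theorem minusThreeData1_part5 : checkPart minusThree minusThreeData1 5 = true := by decide +kernel

theorem minusThreeData1_part6 : checkPart minusThree minusThreeData1 6 = true := by decide +kernel

theorem minusThreeData1_part7 : checkPart minusThree minusThreeData1 7 = true := by decide +kernel

theorem minusThreeData1_check : checkAll minusThree minusThreeData1 8 = true :=
  checkAll_of minusThree (by decide +kernel) (by decide +kernel) fun i hi =>
    match i, hi with
    | 0, _ => minusThreeData1_part0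
    | 1, _ => minusThreeData1_part1
    | 2, _ => minusThreeData1_part2
    | 3, _ => minusThreeData1_part3
    | 4, _ => minusThreeData1_part4
    | 5, _ => minusThreeData1_part5
    | 6, _ => minusThreeData1_part6
    | 7, _ => minusThreeData1_part7
    | j + 8, h => absurd h (by omega)

theorem minusThreeData1_regular : (regular minusThree minusThreeData1.v && canonB minusThree minusThreeData1.w) = true := by decide +kernel

end Cfsg.Lib.CoprimeBase.Cert
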