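import Cfsg.Agent.Lib.CoprimeBase.Data.Models

/-!
A pair of vectors for the extraspecial group of plus type on eight coordinates over three elements, with the list of
the possible elements of its stabiliser.
-/

set_option autoImplicit false

namespace Cfsg.Lib.CoprimeBase.Cert

/-- The certificate. -/
def plusThreeData0 : Data :=
  ⟨17829922, 304087056, [[[(6, 1)], [(7, 2)], [(4, 1)], [(5, 2)], [(2, 2)], [(3, 1)], [(0, 2)], [(1, 1)]], [[(6, 2)], [(7, 2)], [(4, 1)], [(5, 1)], [(2, 2)], [(3, 2)], [(0, 1)], [(1, 1)]], [[(5, 1)], [(4, 1)], [(7, 1)], [(6, 1)], [(1, 1)], [(0, 1)], [(3, 1)], [(2, 1)]]],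
    [[⟨17829922, [0, 0], [2, 0, 0, 0, 0, 0, 0, 0]⟩],
    [⟨304087056, [], [0, 0, 2, 1, 0, 0, 0, 0]⟩, ⟨17829922, [1, 0], [0, 0, 0, 1, 0, 0, 0, 0]⟩, ⟨17829922, [0, 1], [0, 0, 0, 1, 0, 0, 0, 0]⟩, ⟨17829922, [1, 1], [2, 0, 0, 0, 0, 0, 0, 0]⟩],
    [⟨17829922, [2, 2], [1, 0, 0, 0, 0, 0, 0, 0]⟩, ⟨17829922, [2, 0], [0, 0, 0, 0, 0, 1, 0, 0]⟩, ⟨17829922, [2, 1], [0, 0, 0, 0, 0, 0, 1, 0]⟩, ⟨17829922, [0, 2], [0, 0, 0, 0, 0, 1, 0, 0]⟩, ⟨17829922, [1, 2], [0, 0, 0, 0, 0, 0, 1, 0]⟩]],
    [[1, 2, 1, 1, 2, 2, 1, 2], [1, 0, 0, 2, 0, 0, 0, 0], [0, 0, 0, 0, 0, 1, 1, 0], [2, 1, 2, 2, 2, 2, 1, 2], [0, 0, 0, 0, 1, 0, 0, 2], [2, 2, 1, 2, 1, 2, 1, 1], [2, 2, 1, 2, 2, 1, 2, 2], [0, 1, 1, 0, 0, 0, 0, 0]],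
    [[8192, 16, 512, 2, 131072, 16777216, 1048576, 268435456], [1, 16, 512, 4096, 131072, 1048576, 16777216, 268435456], [8192, 16, 256, 2, 65536, 16777216, 1048576, 268435456]],
    [[1, 0, 0, 0, 2, 0, 0, 0], [2, 0, 0, 0, 2, 0, 0, 0], [0, 2, 2, 0, 0, 2, 2, 0], [0, 1, 1, 0, 0, 2, 2, 0], [0, 1, 2, 0, 0, 1, 2, 0], [0, 2, 1, 0, 0, 1, 2, 0]]⟩

theorem plusThreeData0_part0 : checkPart plusThree plusThreeData0 0 = true := by decide +kernel

theorem plusThreeData0_part1 : checkPart plusThree plusThreeData0 1 = true := by decide +kernel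

theorem plusThreeData0_part2 : checkPart plusThree plusThreeData0 2 = true := by decide +kernel

theorem plusThreeData0_part3 : checkPart plusThree plusThreeData0 3 = true := by decide +kernel

theorem plusThreeData0_part4 : checkPart plusThree plusThreeData0 4 = true := by decide +kernel

theorem plusThreeData0_part5 : checkPart plusThree plusThreeData0 5 = true := by decide +kernel

theorem plusThreeData0_part6 : checkPart plusThree plusThreeData0 6 = true := by decide +kernel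

theorem plusThreeData0_part7 : checkPart plusThree plusThreeData0 7 = true := by decide +kernel

theorem plusThreeData0_check : checkAll plusThree plusThreeData0 8 = true :=
  checkAll_of plusThree (by decide +kernel) (by decide +kernel) fun i hi =>
    match i, hi with
    | 0, _ => plusThreeData0_part0
    | 1, _ => plusThreeData0_part1
    | 2, _ => plusThreeData0_part2
    | 3, _ => plusThreeData0_part3
    | 4, _ => plusThreeData0_part4
    | 5, _ => plusThreeData0_part5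
    | 6, _ => plusThreeData0_part6
    | 7, _ => plusThreeData0_part7
    | j + 8, h => absurd h (by omega)

theorem plusThreeData0_regular : (regular plusThree plusThreeData0.v && canonB plusThree plusThreeData0.w) = true := by decide +kernel

end Cfsg.Lib.CoprimeBase.Cert
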