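import Cfsg.Agent.Lib.CoprimeBase.Data.Models

/-!
A pair of vectors for the extraspecial group of plus type on eight coordinates over three elements, with the list of
the possible elements of its stabiliser.
-/

set_option autoImplicit false

namespace Cfsg.Lib.CoprimeBase.Cert

/-- The certificate. -/
def plusThreeData2 : Data :=
  ⟨268505601, 303174144, [[[(3, 2)], [(2, 1)], [(1, 2)], [(0, 1)], [(7, 2)], [(6, 1)], [(5, 2)], [(4, 1)]], [[(7, 2)], [(6, 2)], [(5, 1)], [(4, 1)], [(3, 1)], [(2, 1)], [(1, 2)], [(0, 2)]], [[(0, 2)], [(1, 1)], [(2, 1)], [(3, 2)], [(4, 2)], [(5, 1)], [(6, 1)], [(7, 2)]]],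
    [[⟨268505601, [0, 0], [2, 0, 0, 0, 0, 0, 0, 0]⟩],
    [⟨303174144, [], [1, 0, 2, 2, 0, 0, 0, 0]⟩, ⟨268505601, [1, 0], [0, 0, 0, 1, 0, 0, 0, 0]⟩, ⟨268505601, [0, 1], [0, 0, 0, 1, 0, 0, 0, 0]⟩, ⟨268505601, [1, 1], [1, 0, 0, 0, 0, 0, 0, 0]⟩],
    [⟨268505601, [2, 2], [1, 0, 0, 0, 0, 0, 0, 0]⟩, ⟨268505601, [2, 0], [0, 0, 0, 0, 0, 1, 0, 0]⟩, ⟨268505601, [2, 1], [0, 0, 0, 0, 0, 0, 1, 0]⟩, ⟨268505601, [0, 2], [0, 0, 0, 0, 0, 1, 0, 0]⟩, ⟨268505601, [1, 2], [0, 0, 0, 0, 0, 0, 1, 0]⟩]],
    [[2, 1, 1, 1, 1, 2, 2, 2], [0, 1, 0, 0, 0, 1, 0, 0], [1, 0, 0, 0, 1, 0, 0, 0], [2, 2, 2, 1, 1, 1, 1, 2], [2, 1, 2, 2, 1, 2, 1, 1], [0, 0, 1, 0, 0, 0, 1, 0], [0, 0, 0, 2, 0, 0, 0, 2], [2, 2, 1, 2, 1, 1, 2, 1]],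
    [[34603536, 536944641, 537010178, 35652128, 18874896, 268574721, 268509186, 17826336], [269484546, 16850976, 538968578, 33693728, 16916496, 270533121, 33628176, 537920001], [570425362, 570425377, 1188352, 2171392, 2232832, 2236672, 301989922, 553648162]],
    [[1, 0, 0, 0, 2, 0, 0, 0], [2, 0, 0, 0, 2, 0, 0, 0], [2, 0, 2, 0, 2, 0, 2, 0], [1, 0, 1, 0, 2, 0, 2, 0], [2, 0, 1, 0, 1, 0, 2, 0], [1, 0, 2, 0, 1, 0, 2, 0]]⟩

theorem plusThreeData2_part0 : checkPart plusThree plusThreeData2 0 = true := by decide +kernel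

theorem plusThreeData2_part1 : checkPart plusThree plusThreeData2 1 = true := by decide +kernel

theorem plusThreeData2_part2 : checkPart plusThree plusThreeData2 2 = true := by decide +kernel

theorem plusThreeData2_part3 : checkPart plusThree plusThreeData2 3 = true := by decide +kernel

theorem plusThreeData2_part4 : checkPart plusThree plusThreeData2 4 = true := by decide +kernel

theorem plusThreeData2_part5 : checkPart plusThree plusThreeData2 5 = true := by decide +kernel

theorem plusThreeData2_part6 : checkPart plusThree plusThreeData2 6 = true := by decide +kernel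

theorem plusThreeData2_part7 : checkPart plusThree plusThreeData2 7 = true := by decide +kernel

theorem plusThreeData2_check : checkAll plusThree plusThreeData2 8 = true :=
  checkAll_of plusThree (by decide +kernel) (by decide +kernel) fun i hi =>
    match i, hi with
    | 0, _ => plusThreeData2_part0
    | 1, _ => plusThreeData2_part1
    | 2, _ => plusThreeData2_part2
    | 3, _ => plusThreeData2_part3
    | 4, _ => plusThreeData2_part4
    | 5, _ => plusThreeData2_part5
    | 6, _ => plusThreeData2_part6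
    | 7, _ => plusThreeData2_part7
    | j + 8, h => absurd h (by omega)

theorem plusThreeData2_regular : (regular plusThree plusThreeData2.v && canonB plusThree plusThreeData2.w) = true := by decide +kernel

end Cfsg.Lib.CoprimeBase.Cert
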