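import Cfsg.Agent.Lib.CoprimeBase.Data.Models

/-!
A pair of vectors for the extraspecial group of plus type on eight coordinates over three elements, with the list of
the possible elements of its stabiliser.
-/

set_option autoImplicit false

namespace Cfsg.Lib.CoprimeBase.Cert

/-- The certificate. -/
def plusThreeData3 : Data :=
  ⟨286269729, 18948368, [[[(4, 1)], [(5, 2)], [(6, 1)], [(7, 2)], [(0, 1)], [(1, 2)], [(2, 1)], [(3, 2)]], [[(7, 1)], [(6, 2)], [(5, 2)], [(4, 1)], [(3, 2)], [(2, 1)], [(1, 1)], [(0, 2)]], [[(1, 1)], [(0, 1)], [(3, 1)], [(2, 1)], [(5, 2)], [(4, 2)], [(7, 2)], [(6, 2)]]],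
    [[⟨286269729, [0, 0], [1, 0, 0, 0, 0, 0, 0, 0]⟩],
    [⟨18948368, [], [1, 2, 0, 2, 0, 0, 0, 0]⟩, ⟨286269729, [1, 0], [0, 0, 0, 1, 0, 0, 0, 0]⟩, ⟨286269729, [0, 1], [0, 0, 0, 1, 0, 0, 0, 0]⟩, ⟨286269729, [1, 1], [2, 0, 0, 0, 0, 0, 0, 0]⟩],
    [⟨286269729, [2, 2], [1, 0, 0, 0, 0, 0, 0, 0]⟩, ⟨286269729, [2, 0], [0, 0, 0, 0, 0, 1, 0, 0]⟩, ⟨286269729, [2, 1], [0, 0, 0, 0, 0, 0, 1, 0]⟩, ⟨286269729, [0, 2], [0, 0, 0, 0, 0, 1, 0, 0]⟩, ⟨286269729, [1, 2], [0, 0, 0, 0, 0, 0, 1, 0]⟩]],
    [[1, 0, 1, 1, 2, 2, 2, 2], [2, 2, 2, 2, 1, 0, 1, 1], [1, 1, 2, 2, 2, 2, 0, 1], [2, 2, 0, 1, 1, 1, 2, 2], [0, 1, 1, 1, 2, 2, 2, 2], [1, 1, 1, 1, 0, 2, 2, 2], [1, 1, 2, 2, 2, 2, 1, 0], [1, 1, 2, 0, 2, 2, 1, 1]],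
    [[16843010, 269492240, 33620225, 537927712, 16908545, 537923600, 16843265, 538976272], [16843010, 270540832, 16843265, 537927712, 16908545, 538972192, 33620225, 538976272], [1, 2097152, 16777216, 4096, 65536, 32, 256, 268435456]],
    [[1, 0, 0, 0, 2, 0, 0, 0], [2, 0, 0, 0, 2, 0, 0, 0], [2, 1, 0, 0, 1, 2, 0, 0], [1, 2, 0, 0, 1, 2, 0, 0], [2, 2, 0, 0, 2, 2, 0, 0], [1, 1, 0, 0, 2, 2, 0, 0]]⟩

theorem plusThreeData3_part0 : checkPart plusThree plusThreeData3 0 = true := by decide +kernel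

theorem plusThreeData3_part1 : checkPart plusThree plusThreeData3 1 = true := by decide +kernel

theorem plusThreeData3_part2 : checkPart plusThree plusThreeData3 2 = true := by decide +kernel

theorem plusThreeData3_part3 : checkPart plusThree plusThreeData3 3 = true := by decide +kernel

theorem plusThreeData3_part4 : checkPart plusThree plusThreeData3 4 = true := by decide +kernel

theorem plusThreeData3_part5 : checkPart plusThree plusThreeData3 5 = true := by decide +kernel

theorem plusThreeData3_part6 : checkPart plusThree plusThreeData3 6 = true := by decide +kernel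

theorem plusThreeData3_part7 : checkPart plusThree plusThreeData3 7 = true := by decide +kernel

theorem plusThreeData3_check : checkAll plusThree plusThreeData3 8 = true :=
  checkAll_of plusThree (by decide +kernel) (by decide +kernel) fun i hi =>
    match i, hi with
    | 0, _ => plusThreeData3_part0
    | 1, _ => plusThreeData3_part1
    | 2, _ => plusThreeData3_part2
    | 3, _ => plusThreeData3_part3
    | 4, _ => plusThreeData3_part4
    | 5, _ => plusThreeData3_part5
    | 6, _ => plusThreeData3_part6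
    | 7, _ => plusThreeData3_part7
    | j + 8, h => absurd h (by omega)

theorem plusThreeData3_regular : (regular plusThree plusThreeData3.v && canonB plusThree plusThreeData3.w) = true := by decide +kernel

end Cfsg.Lib.CoprimeBase.Cert
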