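import Cfsg.Agent.Lib.CoprimeBase.Data.Models

/-!
A pair of vectors for the extraspecial group of plus type on four coordinates over three elements, with the list of
the possible elements of its stabiliser.
-/

set_option autoImplicit false

namespace Cfsg.Lib.CoprimeBase.Cert

/-- The certificate. -/
def plusTwoData1 : Data :=
  ⟨4129, 8721, [[[(0, 1)], [(1, 2)], [(2, 1)], [(3, 2)]], [[(3, 1)], [(2, 2)], [(1, 1)], [(0, 2)]]],
    [[⟨4129, [0, 0], [1, 0, 0, 0]⟩],
    [⟨8721, [], [1, 2, 2, 1]⟩, ⟨4129, [1, 0], [0, 0, 0, 2]⟩, ⟨4129, [0, 1], [0, 0, 0, 1]⟩, ⟨4129, [1, 1], [2, 0, 0, 0]⟩]],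
    [[2, 2, 0, 0], [1, 2, 1, 1], [2, 2, 1, 2], [0, 0, 1, 1]],
    [[1, 8192, 256, 32], [4642, 8482, 8722, 8737], [4642, 4370, 8722, 4625]],
    []⟩

theorem plusTwoData1_part0 : checkPart plusTwo plusTwoData1 0 = true := by decide +kernel

theorem plusTwoData1_part1 : checkPart plusTwo plusTwoData1 1 = true := by decide +kernel

theorem plusTwoData1_check : checkAll plusTwo plusTwoData1 2 = true :=
  checkAll_of plusTwo (by decide +kernel) (by decide +kernel) fun i hi =>
    match i, hi with
    | 0, _ => plusTwoData1_part0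
    | 1, _ => plusTwoData1_part1
    | j + 2, h => absurd h (by omega)

theorem plusTwoData1_regular : (regular plusTwo plusTwoData1.v && canonB plusTwo plusTwoData1.w) = true := by decide +kernel

end Cfsg.Lib.CoprimeBase.Cert
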