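import Cfsg.Agent.Lib.CoprimeBase.Data.Models

/-!
A pair of vectors for the extraspecial group of plus type on four coordinates over three elements, with the list of
the possible elements of its stabiliser.
-/

set_option autoImplicit false

namespace Cfsg.Lib.CoprimeBase.Cert

/-- The certificate. -/
def plusTwoData3 : Data :=
  ⟨8464, 8194, [[[(0, 1)], [(1, 1)], [(2, 2)], [(3, 2)]], [[(2, 2)], [(3, 1)], [(0, 1)], [(1, 2)]]],
    [[⟨8464, [0, 0], [1, 0, 0, 0]⟩],
    [⟨8194, [], [2, 2, 1, 0]⟩, ⟨8464, [1, 0], [0, 0, 0, 2]⟩, ⟨8464, [0, 1], [0, 0, 0, 1]⟩, ⟨8464, [1, 1], [2, 0, 0, 0]⟩]],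
    [[1, 1, 1, 2], [2, 2, 0, 0], [2, 1, 1, 1], [0, 0, 1, 1]],
    [[1, 256, 16, 4096], [8466, 8481, 8721, 8738], [8466, 8721, 8481, 8738]],
    []⟩

theorem plusTwoData3_part0 : checkPart plusTwo plusTwoData3 0 = true := by decide +kernel

theorem plusTwoData3_part1 : checkPart plusTwo plusTwoData3 1 = true := by decide +kernel

theorem plusTwoData3_check : checkAll plusTwo plusTwoData3 2 = true :=
  checkAll_of plusTwo (by decide +kernel) (by decide +kernel) fun i hi =>
    match i, hi with
    | 0, _ => plusTwoData3_part0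
    | 1, _ => plusTwoData3_part1
    | j + 2, h => absurd h (by omega)

theorem plusTwoData3_regular : (regular plusTwo plusTwoData3.v && canonB plusTwo plusTwoData3.w) = true := by decide +kernel

end Cfsg.Lib.CoprimeBase.Cert
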