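import Cfsg.Agent.Lib.CoprimeBase.Data.PlusTwo0
import Cfsg.Agent.Lib.CoprimeBase.Data.PlusTwo1
import Cfsg.Agent.Lib.CoprimeBase.Data.PlusTwo2
import Cfsg.Agent.Lib.CoprimeBase.Data.PlusTwo3
import Cfsg.Agent.Lib.CoprimeBase.Data.PlusThree0
import Cfsg.Agent.Lib.CoprimeBase.Data.PlusThree1
import Cfsg.Agent.Lib.CoprimeBase.Data.PlusThree2
import Cfsg.Agent.Lib.CoprimeBase.Data.PlusThree3
import Cfsg.Agent.Lib.CoprimeBase.Data.MinusThree0
import Cfsg.Agent.Lib.CoprimeBase.Data.MinusThree1
import Cfsg.Agent.Lib.CoprimeBase.Data.MinusThree2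
import Cfsg.Agent.Lib.CoprimeBase.Trick

/-!
Every transversal of the possible stabiliser elements has a product of order divisible by three.
-/

set_option autoImplicit false

namespace Cfsg.Lib.CoprimeBase.Cert

theorem plusTwo_cover : cover plusTwo [plusTwoData0.sols, plusTwoData1.sols, plusTwoData2.sols, plusTwoData3.sols] [] = true := by
  decide +kernel

theorem plusThree_cover : cover plusThree [plusThreeData0.sols, plusThreeData1.sols, plusThreeData2.sols, plusThreeData3.sols] [] = true := by
  decide +kernel

theorem minusThree_cover : cover minusThree [minusThreeData0.sols, minusThreeData1.sols, minusThreeData2.sols] [] = true := by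
  decide +kernel

end Cfsg.Lib.CoprimeBase.Cert
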