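import Cfsg.Agent.Lib.CoprimeBase.Data.Models

/-!
A pair of vectors for the Pauli group on four coordinates with scalars of order four over five elements, with the list of
the possible elements of its stabiliser.
-/

set_option autoImplicit false

namespace Cfsg.Lib.CoprimeBase.Cert

/-- The certificate. -/
def fiveData : Data :=
  ⟨1041, 4132, [[[(1, 1)], [(0, 4)], [(3, 1)], [(2, 4)]], [[(1, 1)], [(0, 4)], [(3, 4)], [(2, 1)]]],
    [[⟨1041, [0, 0], [4, 0, 0, 0]⟩],
    [⟨4132, [], [4, 1, 0, 1]⟩, ⟨1041, [1, 0], [0, 0, 0, 1]⟩, ⟨1041, [0, 1], [0, 0, 0, 1]⟩, ⟨1041, [1, 1], [4, 0, 0, 0]⟩]],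
    [[4, 4, 4, 1], [4, 1, 1, 1], [2, 0, 0, 2], [0, 3, 2, 0]],
    [],
    []⟩

theorem fiveData_part0 : checkPart five fiveData 0 = true := by decide +kernel

theorem fiveData_part1 : checkPart five fiveData 1 = true := by decide +kernel

theorem fiveData_part2 : checkPart five fiveData 2 = true := by decide +kernel

theorem fiveData_part3 : checkPart five fiveData 3 = true := by decide +kernel

theorem fiveData_check : checkAll five fiveData 4 = true :=
  checkAll_of five (by decide +kernel) (by decide +kernel) fun i hi =>
    match i, hi with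
    | 0, _ => fiveData_part0
    | 1, _ => fiveData_part1
    | 2, _ => fiveData_part2
    | 3, _ => fiveData_part3
    | j + 4, h => absurd h (by omega)

theorem fiveData_regular : (regular five fiveData.v && canonB five fiveData.w) = true := by decide +kernel

end Cfsg.Lib.CoprimeBase.Cert
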