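import Cfsg.Agent.Lib.CoprimeBase.Cert

/-!
The five small models.
-/

set_option autoImplicit false

namespace Cfsg.Lib.CoprimeBase.Cert

/-- The model of the Pauli group on four coordinates with scalars of order four over five elements. -/
def five : Model :=
  ⟨5, 4, [[[(0, 1)], [(1, 4)], [(2, 1)], [(3, 4)]], [[(0, 1)], [(1, 1)], [(2, 4)], [(3, 4)]], [[(1, 1)], [(0, 1)], [(3, 1)], [(2, 1)]], [[(2, 1)], [(3, 1)], [(0, 1)], [(1, 1)]], [[(0, 2)], [(1, 2)], [(2, 2)], [(3, 2)]], [[(0, 4)], [(1, 4)], [(2, 4)], [(3, 4)]]],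
    [[[(0, 1)], [(1, 1)], [(2, 1)], [(3, 1)]],
     [[(0, 1)], [(1, 4)], [(2, 1)], [(3, 4)]],
     [[(0, 1)], [(1, 1)], [(2, 4)], [(3, 4)]],
     [[(0, 1)], [(1, 4)], [(2, 4)], [(3, 1)]],
     [[(1, 1)], [(0, 1)], [(3, 1)], [(2, 1)]],
     [[(1, 4)], [(0, 1)], [(3, 4)], [(2, 1)]],
     [[(1, 1)], [(0, 1)], [(3, 4)], [(2, 4)]],
     [[(1, 4)], [(0, 1)], [(3, 1)], [(2, 4)]],
     [[(2, 1)], [(3, 1)], [(0, 1)], [(1, 1)]],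
     [[(2, 1)], [(3, 4)], [(0, 1)], [(1, 4)]],
     [[(2, 4)], [(3, 4)], [(0, 1)], [(1, 1)]],
     [[(2, 4)], [(3, 1)], [(0, 1)], [(1, 4)]],
     [[(3, 1)], [(2, 1)], [(1, 1)], [(0, 1)]],
     [[(3, 4)], [(2, 1)], [(1, 4)], [(0, 1)]],
     [[(3, 4)], [(2, 4)], [(1, 1)], [(0, 1)]],
     [[(3, 1)], [(2, 4)], [(1, 4)], [(0, 1)]],
     [[(0, 2)], [(1, 2)], [(2, 2)], [(3, 2)]],
     [[(0, 2)], [(1, 3)], [(2, 2)], [(3, 3)]],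
     [[(0, 2)], [(1, 2)], [(2, 3)], [(3, 3)]],
     [[(0, 2)], [(1, 3)], [(2, 3)], [(3, 2)]],
     [[(1, 2)], [(0, 2)], [(3, 2)], [(2, 2)]],
     [[(1, 3)], [(0, 2)], [(3, 3)], [(2, 2)]],
     [[(1, 2)], [(0, 2)], [(3, 3)], [(2, 3)]],
     [[(1, 3)], [(0, 2)], [(3, 2)], [(2, 3)]],
     [[(2, 2)], [(3, 2)], [(0, 2)], [(1, 2)]],
     [[(2, 2)], [(3, 3)], [(0, 2)], [(1, 3)]],
     [[(2, 3)], [(3, 3)], [(0, 2)], [(1, 2)]],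
     [[(2, 3)], [(3, 2)], [(0, 2)], [(1, 3)]],
     [[(3, 2)], [(2, 2)], [(1, 2)], [(0, 2)]],
     [[(3, 3)], [(2, 2)], [(1, 3)], [(0, 2)]],
     [[(3, 3)], [(2, 3)], [(1, 2)], [(0, 2)]],
     [[(3, 2)], [(2, 3)], [(1, 3)], [(0, 2)]],
     [[(0, 4)], [(1, 4)], [(2, 4)], [(3, 4)]],
     [[(0, 4)], [(1, 1)], [(2, 4)], [(3, 1)]],
     [[(0, 4)], [(1, 4)], [(2, 1)], [(3, 1)]],
     [[(0, 4)], [(1, 1)], [(2, 1)], [(3, 4)]],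
     [[(1, 4)], [(0, 4)], [(3, 4)], [(2, 4)]],
     [[(1, 1)], [(0, 4)], [(3, 1)], [(2, 4)]],
     [[(1, 4)], [(0, 4)], [(3, 1)], [(2, 1)]],
     [[(1, 1)], [(0, 4)], [(3, 4)], [(2, 1)]],
     [[(2, 4)], [(3, 4)], [(0, 4)], [(1, 4)]],
     [[(2, 4)], [(3, 1)], [(0, 4)], [(1, 1)]],
     [[(2, 1)], [(3, 1)], [(0, 4)], [(1, 4)]],
     [[(2, 1)], [(3, 4)], [(0, 4)], [(1, 1)]],
     [[(3, 4)], [(2, 4)], [(1, 4)], [(0, 4)]],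
     [[(3, 1)], [(2, 4)], [(1, 1)], [(0, 4)]],
     [[(3, 1)], [(2, 1)], [(1, 4)], [(0, 4)]],
     [[(3, 4)], [(2, 1)], [(1, 1)], [(0, 4)]],
     [[(0, 3)], [(1, 3)], [(2, 3)], [(3, 3)]],
     [[(0, 3)], [(1, 2)], [(2, 3)], [(3, 2)]],
     [[(0, 3)], [(1, 3)], [(2, 2)], [(3, 2)]],
     [[(0, 3)], [(1, 2)], [(2, 2)], [(3, 3)]],
     [[(1, 3)], [(0, 3)], [(3, 3)], [(2, 3)]],
     [[(1, 2)], [(0, 3)], [(3, 2)], [(2, 3)]],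
     [[(1, 3)], [(0, 3)], [(3, 2)], [(2, 2)]],
     [[(1, 2)], [(0, 3)], [(3, 3)], [(2, 2)]],
     [[(2, 3)], [(3, 3)], [(0, 3)], [(1, 3)]],
     [[(2, 3)], [(3, 2)], [(0, 3)], [(1, 2)]],
     [[(2, 2)], [(3, 2)], [(0, 3)], [(1, 3)]],
     [[(2, 2)], [(3, 3)], [(0, 3)], [(1, 2)]],
     [[(3, 3)], [(2, 3)], [(1, 3)], [(0, 3)]],
     [[(3, 2)], [(2, 3)], [(1, 2)], [(0, 3)]],
     [[(3, 2)], [(2, 2)], [(1, 3)], [(0, 3)]],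
     [[(3, 3)], [(2, 2)], [(1, 2)], [(0, 3)]]]⟩

theorem five_table : tableOK five = true := by decide +kernel

theorem five_wf : wf five = true := by decide +kernel

/-- Representatives of three regular classes of five. -/
def fiveClasses : List ℕ := [12592, 12560, 5136]

theorem five_classes : (fiveClasses.all (regular five) && apart five 12592 12560 &&
    apart five 12592 5136 && apart five 12560 5136) = true := by decide +kernel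

/-- The model of the Pauli group on two qubits over nine elements, written over three elements. -/
def nine : Model :=
  ⟨3, 8, [[[(0, 1)], [(1, 1)], [(2, 2)], [(3, 2)], [(4, 1)], [(5, 1)], [(6, 2)], [(7, 2)]], [[(0, 1)], [(1, 1)], [(2, 1)], [(3, 1)], [(4, 2)], [(5, 2)], [(6, 2)], [(7, 2)]], [[(2, 1)], [(3, 1)], [(0, 1)], [(1, 1)], [(6, 1)], [(7, 1)], [(4, 1)], [(5, 1)]], [[(4, 1)], [(5, 1)], [(6, 1)], [(7, 1)], [(0, 1)], [(1, 1)], [(2, 1)], [(3, 1)]], [[(1, 1)], [(0, 1), (1, 1)], [(3, 1)], [(2, 1), (3, 1)], [(5, 1)], [(4, 1), (5, 1)], [(7, 1)], [(6, 1), (7, 1)]], [[(0, 1), (1, 1)], [(0, 1), (1, 2)], [(2, 1), (3, 1)], [(2, 1), (3, 2)], [(4, 1), (5, 1)], [(4, 1), (5, 2)], [(6, 1), (7, 1)], [(6, 1), (7, 2)]], [[(0, 2)], [(1, 2)], [(2, 2)], [(3, 2)], [(4, 2)], [(5, 2)], [(6, 2)], [(7,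 2)]]],
    [[[(0, 1)], [(1, 1)], [(2, 1)], [(3, 1)], [(4, 1)], [(5, 1)], [(6, 1)], [(7, 1)]],
     [[(0, 1)], [(1, 1)], [(2, 2)], [(3, 2)], [(4, 1)], [(5, 1)], [(6, 2)], [(7, 2)]],
     [[(0, 1)], [(1, 1)], [(2, 1)], [(3, 1)], [(4, 2)], [(5, 2)], [(6, 2)], [(7, 2)]],
     [[(0, 1)], [(1, 1)], [(2, 2)], [(3, 2)], [(4, 2)], [(5, 2)], [(6, 1)], [(7, 1)]],
     [[(2, 1)], [(3, 1)], [(0, 1)], [(1, 1)], [(6, 1)], [(7, 1)], [(4, 1)], [(5, 1)]],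
     [[(2, 2)], [(3, 2)], [(0, 1)], [(1, 1)], [(6, 2)], [(7, 2)], [(4, 1)], [(5, 1)]],
     [[(2, 1)], [(3, 1)], [(0, 1)], [(1, 1)], [(6, 2)], [(7, 2)], [(4, 2)], [(5, 2)]],
     [[(2, 2)], [(3, 2)], [(0, 1)], [(1, 1)], [(6, 1)], [(7, 1)], [(4, 2)], [(5, 2)]],
     [[(4, 1)], [(5, 1)], [(6, 1)], [(7, 1)], [(0, 1)], [(1, 1)], [(2, 1)], [(3, 1)]],
     [[(4, 1)], [(5, 1)], [(6, 2)], [(7, 2)], [(0, 1)], [(1, 1)], [(2, 2)], [(3, 2)]],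
     [[(4, 2)], [(5, 2)], [(6, 2)], [(7, 2)], [(0, 1)], [(1, 1)], [(2, 1)], [(3, 1)]],
     [[(4, 2)], [(5, 2)], [(6, 1)], [(7, 1)], [(0, 1)], [(1, 1)], [(2, 2)], [(3, 2)]],
     [[(6, 1)], [(7, 1)], [(4, 1)], [(5, 1)], [(2, 1)], [(3, 1)], [(0, 1)], [(1, 1)]],
     [[(6, 2)], [(7, 2)], [(4, 1)], [(5, 1)], [(2, 2)], [(3, 2)], [(0, 1)], [(1, 1)]],
     [[(6, 2)], [(7, 2)], [(4, 2)], [(5, 2)], [(2, 1)], [(3, 1)], [(0, 1)], [(1, 1)]],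
     [[(6, 1)], [(7, 1)], [(4, 2)], [(5, 2)], [(2, 2)], [(3, 2)], [(0, 1)], [(1, 1)]],
     [[(1, 1)], [(0, 1), (1, 1)], [(3, 1)], [(2, 1), (3, 1)], [(5, 1)], [(4, 1), (5, 1)], [(7, 1)], [(6, 1), (7, 1)]],
     [[(1, 1)], [(0, 1), (1, 1)], [(3, 2)], [(2, 2), (3, 2)], [(5, 1)], [(4, 1), (5, 1)], [(7, 2)], [(6, 2), (7, 2)]],
     [[(1, 1)], [(0, 1), (1, 1)], [(3, 1)], [(2, 1), (3, 1)], [(5, 2)], [(4, 2), (5, 2)], [(7, 2)], [(6, 2), (7, 2)]],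
     [[(1, 1)], [(0, 1), (1, 1)], [(3, 2)], [(2, 2), (3, 2)], [(5, 2)], [(4, 2), (5, 2)], [(7, 1)], [(6, 1), (7, 1)]],
     [[(3, 1)], [(2, 1), (3, 1)], [(1, 1)], [(0, 1), (1, 1)], [(7, 1)], [(6, 1), (7, 1)], [(5, 1)], [(4, 1), (5, 1)]],
     [[(3, 2)], [(2, 2), (3, 2)], [(1, 1)], [(0, 1), (1, 1)], [(7, 2)], [(6, 2), (7, 2)], [(5, 1)], [(4, 1), (5, 1)]],
     [[(3, 1)], [(2, 1), (3, 1)], [(1, 1)], [(0, 1), (1, 1)], [(7, 2)], [(6, 2), (7, 2)], [(5, 2)], [(4, 2), (5, 2)]],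
     [[(3, 2)], [(2, 2), (3, 2)], [(1, 1)], [(0, 1), (1, 1)], [(7, 1)], [(6, 1), (7, 1)], [(5, 2)], [(4, 2), (5, 2)]],
     [[(5, 1)], [(4, 1), (5, 1)], [(7, 1)], [(6, 1), (7, 1)], [(1, 1)], [(0, 1), (1, 1)], [(3, 1)], [(2, 1), (3, 1)]],
     [[(5, 1)], [(4, 1), (5, 1)], [(7, 2)], [(6, 2), (7, 2)], [(1, 1)], [(0, 1), (1, 1)], [(3, 2)], [(2, 2), (3, 2)]],
     [[(5, 2)], [(4, 2), (5, 2)], [(7, 2)], [(6, 2), (7, 2)], [(1, 1)], [(0, 1), (1, 1)], [(3, 1)], [(2, 1), (3, 1)]],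
     [[(5, 2)], [(4, 2), (5, 2)], [(7, 1)], [(6, 1), (7, 1)], [(1, 1)], [(0, 1), (1, 1)], [(3, 2)], [(2, 2), (3, 2)]],
     [[(7, 1)], [(6, 1), (7, 1)], [(5, 1)], [(4, 1), (5, 1)], [(3, 1)], [(2, 1), (3, 1)], [(1, 1)], [(0, 1), (1, 1)]],
     [[(7, 2)], [(6, 2), (7, 2)], [(5, 1)], [(4, 1), (5, 1)], [(3, 2)], [(2, 2), (3, 2)], [(1, 1)], [(0, 1), (1, 1)]],
     [[(7, 2)], [(6, 2), (7, 2)], [(5, 2)], [(4, 2), (5, 2)], [(3, 1)], [(2, 1), (3, 1)], [(1, 1)], [(0, 1), (1, 1)]],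
     [[(7, 1)], [(6, 1), (7, 1)], [(5, 2)], [(4, 2), (5, 2)], [(3, 2)], [(2, 2), (3, 2)], [(1, 1)], [(0, 1), (1, 1)]],
     [[(0, 1), (1, 1)], [(0, 1), (1, 2)], [(2, 1), (3, 1)], [(2, 1), (3, 2)], [(4, 1), (5, 1)], [(4, 1), (5, 2)], [(6, 1), (7, 1)], [(6, 1), (7, 2)]],
     [[(0, 1), (1, 1)], [(0, 1), (1, 2)], [(2, 2), (3, 2)], [(2, 2), (3, 1)], [(4, 1), (5, 1)], [(4, 1), (5, 2)], [(6, 2), (7, 2)], [(6, 2), (7, 1)]],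
     [[(0, 1), (1, 1)], [(0, 1), (1, 2)], [(2, 1), (3, 1)], [(2, 1), (3, 2)], [(4, 2), (5, 2)], [(4, 2), (5, 1)], [(6, 2), (7, 2)], [(6, 2), (7, 1)]],
     [[(0, 1), (1, 1)], [(0, 1), (1, 2)], [(2, 2), (3, 2)], [(2, 2), (3, 1)], [(4, 2), (5, 2)], [(4, 2), (5, 1)], [(6, 1), (7, 1)], [(6, 1), (7, 2)]],
     [[(2, 1), (3, 1)], [(2, 1), (3, 2)], [(0, 1), (1, 1)], [(0, 1), (1, 2)], [(6, 1), (7, 1)], [(6, 1), (7, 2)], [(4, 1), (5, 1)], [(4, 1), (5, 2)]],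
     [[(2, 2), (3, 2)], [(2, 2), (3, 1)], [(0, 1), (1, 1)], [(0, 1), (1, 2)], [(6, 2), (7, 2)], [(6, 2), (7, 1)], [(4, 1), (5, 1)], [(4, 1), (5, 2)]],
     [[(2, 1), (3, 1)], [(2, 1), (3, 2)], [(0, 1), (1, 1)], [(0, 1), (1, 2)], [(6, 2), (7, 2)], [(6, 2), (7, 1)], [(4, 2), (5, 2)], [(4, 2), (5, 1)]],
     [[(2, 2), (3, 2)], [(2, 2), (3, 1)], [(0, 1), (1, 1)], [(0, 1), (1, 2)], [(6, 1), (7, 1)], [(6, 1), (7, 2)], [(4, 2), (5, 2)], [(4, 2), (5, 1)]],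
     [[(4, 1), (5, 1)], [(4, 1), (5, 2)], [(6, 1), (7, 1)], [(6, 1), (7, 2)], [(0, 1), (1, 1)], [(0, 1), (1, 2)], [(2, 1), (3, 1)], [(2, 1), (3, 2)]],
     [[(4, 1), (5, 1)], [(4, 1), (5, 2)], [(6, 2), (7, 2)], [(6, 2), (7, 1)], [(0, 1), (1, 1)], [(0, 1), (1, 2)], [(2, 2), (3, 2)], [(2, 2), (3, 1)]],
     [[(4, 2), (5, 2)], [(4, 2), (5, 1)], [(6, 2), (7, 2)], [(6, 2), (7, 1)], [(0, 1), (1, 1)], [(0, 1), (1, 2)], [(2, 1), (3, 1)], [(2, 1), (3, 2)]],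
     [[(4, 2), (5, 2)], [(4, 2), (5, 1)], [(6, 1), (7, 1)], [(6, 1), (7, 2)], [(0, 1), (1, 1)], [(0, 1), (1, 2)], [(2, 2), (3, 2)], [(2, 2), (3, 1)]],
     [[(6, 1), (7, 1)], [(6, 1), (7, 2)], [(4, 1), (5, 1)], [(4, 1), (5, 2)], [(2, 1), (3, 1)], [(2, 1), (3, 2)], [(0, 1), (1, 1)], [(0, 1), (1, 2)]],
     [[(6, 2), (7, 2)], [(6, 2), (7, 1)], [(4, 1), (5, 1)], [(4, 1), (5, 2)], [(2, 2), (3, 2)], [(2, 2), (3, 1)], [(0, 1), (1, 1)], [(0, 1), (1, 2)]],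
     [[(6, 2), (7, 2)], [(6, 2), (7, 1)], [(4, 2), (5, 2)], [(4, 2), (5, 1)], [(2, 1), (3, 1)], [(2, 1), (3, 2)], [(0, 1), (1, 1)], [(0, 1), (1, 2)]],
     [[(6, 1), (7, 1)], [(6, 1), (7, 2)], [(4, 2), (5, 2)], [(4, 2), (5, 1)], [(2, 2), (3, 2)], [(2, 2), (3, 1)], [(0, 1), (1, 1)], [(0, 1), (1, 2)]],
     [[(0, 1), (1, 2)], [(0, 2)], [(2, 1), (3, 2)], [(2, 2)], [(4, 1), (5, 2)], [(4, 2)], [(6, 1), (7, 2)], [(6, 2)]],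
     [[(0, 1), (1, 2)], [(0, 2)], [(2, 2), (3, 1)], [(2, 1)], [(4, 1), (5, 2)], [(4, 2)], [(6, 2), (7, 1)], [(6, 1)]],
     [[(0, 1), (1, 2)], [(0, 2)], [(2, 1), (3, 2)], [(2, 2)], [(4, 2), (5, 1)], [(4, 1)], [(6, 2), (7, 1)], [(6, 1)]],
     [[(0, 1), (1, 2)], [(0, 2)], [(2, 2), (3, 1)], [(2, 1)], [(4, 2), (5, 1)], [(4, 1)], [(6, 1), (7, 2)], [(6, 2)]],
     [[(2, 1), (3, 2)], [(2, 2)], [(0, 1), (1, 2)], [(0, 2)], [(6, 1), (7, 2)], [(6, 2)], [(4, 1), (5, 2)], [(4, 2)]],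
     [[(2, 2), (3, 1)], [(2, 1)], [(0, 1), (1, 2)], [(0, 2)], [(6, 2), (7, 1)], [(6, 1)], [(4, 1), (5, 2)], [(4, 2)]],
     [[(2, 1), (3, 2)], [(2, 2)], [(0, 1), (1, 2)], [(0, 2)], [(6, 2), (7, 1)], [(6, 1)], [(4, 2), (5, 1)], [(4, 1)]],
     [[(2, 2), (3, 1)], [(2, 1)], [(0, 1), (1, 2)], [(0, 2)], [(6, 1), (7, 2)], [(6, 2)], [(4, 2), (5, 1)], [(4, 1)]],
     [[(4, 1), (5, 2)], [(4, 2)], [(6, 1), (7, 2)], [(6, 2)], [(0, 1), (1, 2)], [(0, 2)], [(2, 1), (3, 2)], [(2, 2)]],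
     [[(4, 1), (5, 2)], [(4, 2)], [(6, 2), (7, 1)], [(6, 1)], [(0, 1), (1, 2)], [(0, 2)], [(2, 2), (3, 1)], [(2, 1)]],
     [[(4, 2), (5, 1)], [(4, 1)], [(6, 2), (7, 1)], [(6, 1)], [(0, 1), (1, 2)], [(0, 2)], [(2, 1), (3, 2)], [(2, 2)]],
     [[(4, 2), (5, 1)], [(4, 1)], [(6, 1), (7, 2)], [(6, 2)], [(0, 1), (1, 2)], [(0, 2)], [(2, 2), (3, 1)], [(2, 1)]],
     [[(6, 1), (7, 2)], [(6, 2)], [(4, 1), (5, 2)], [(4, 2)], [(2, 1), (3, 2)], [(2, 2)], [(0, 1), (1, 2)], [(0, 2)]],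
     [[(6, 2), (7, 1)], [(6, 1)], [(4, 1), (5, 2)], [(4, 2)], [(2, 2), (3, 1)], [(2, 1)], [(0, 1), (1, 2)], [(0, 2)]],
     [[(6, 2), (7, 1)], [(6, 1)], [(4, 2), (5, 1)], [(4, 1)], [(2, 1), (3, 2)], [(2, 2)], [(0, 1), (1, 2)], [(0, 2)]],
     [[(6, 1), (7, 2)], [(6, 2)], [(4, 2), (5, 1)], [(4, 1)], [(2, 2), (3, 1)], [(2, 1)], [(0, 1), (1, 2)], [(0, 2)]],
     [[(0, 2)], [(1, 2)], [(2, 2)], [(3, 2)], [(4, 2)], [(5, 2)], [(6, 2)], [(7, 2)]],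
     [[(0, 2)], [(1, 2)], [(2, 1)], [(3, 1)], [(4, 2)], [(5, 2)], [(6, 1)], [(7, 1)]],
     [[(0, 2)], [(1, 2)], [(2, 2)], [(3, 2)], [(4, 1)], [(5, 1)], [(6, 1)], [(7, 1)]],
     [[(0, 2)], [(1, 2)], [(2, 1)], [(3, 1)], [(4, 1)], [(5, 1)], [(6, 2)], [(7, 2)]],
     [[(2, 2)], [(3, 2)], [(0, 2)], [(1, 2)], [(6, 2)], [(7, 2)], [(4, 2)], [(5, 2)]],
     [[(2, 1)], [(3, 1)], [(0, 2)], [(1, 2)], [(6, 1)], [(7, 1)], [(4, 2)], [(5, 2)]],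
     [[(2, 2)], [(3, 2)], [(0, 2)], [(1, 2)], [(6, 1)], [(7, 1)], [(4, 1)], [(5, 1)]],
     [[(2, 1)], [(3, 1)], [(0, 2)], [(1, 2)], [(6, 2)], [(7, 2)], [(4, 1)], [(5, 1)]],
     [[(4, 2)], [(5, 2)], [(6, 2)], [(7, 2)], [(0, 2)], [(1, 2)], [(2, 2)], [(3, 2)]],
     [[(4, 2)], [(5, 2)], [(6, 1)], [(7, 1)], [(0, 2)], [(1, 2)], [(2, 1)], [(3, 1)]],
     [[(4, 1)], [(5, 1)], [(6, 1)], [(7, 1)], [(0, 2)], [(1, 2)], [(2, 2)], [(3, 2)]],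
     [[(4, 1)], [(5, 1)], [(6, 2)], [(7, 2)], [(0, 2)], [(1, 2)], [(2, 1)], [(3, 1)]],
     [[(6, 2)], [(7, 2)], [(4, 2)], [(5, 2)], [(2, 2)], [(3, 2)], [(0, 2)], [(1, 2)]],
     [[(6, 1)], [(7, 1)], [(4, 2)], [(5, 2)], [(2, 1)], [(3, 1)], [(0, 2)], [(1, 2)]],
     [[(6, 1)], [(7, 1)], [(4, 1)], [(5, 1)], [(2, 2)], [(3, 2)], [(0, 2)], [(1, 2)]],
     [[(6, 2)], [(7, 2)], [(4, 1)], [(5, 1)], [(2, 1)], [(3, 1)], [(0, 2)], [(1, 2)]],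
     [[(1, 2)], [(0, 2), (1, 2)], [(3, 2)], [(2, 2), (3, 2)], [(5, 2)], [(4, 2), (5, 2)], [(7, 2)], [(6, 2), (7, 2)]],
     [[(1, 2)], [(0, 2), (1, 2)], [(3, 1)], [(2, 1), (3, 1)], [(5, 2)], [(4, 2), (5, 2)], [(7, 1)], [(6, 1), (7, 1)]],
     [[(1, 2)], [(0, 2), (1, 2)], [(3, 2)], [(2, 2), (3, 2)], [(5, 1)], [(4, 1), (5, 1)], [(7, 1)], [(6, 1), (7, 1)]],
     [[(1, 2)], [(0, 2), (1, 2)], [(3, 1)], [(2, 1), (3, 1)], [(5, 1)], [(4, 1), (5, 1)], [(7, 2)], [(6, 2), (7, 2)]],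
     [[(3, 2)], [(2, 2), (3, 2)], [(1, 2)], [(0, 2), (1, 2)], [(7, 2)], [(6, 2), (7, 2)], [(5, 2)], [(4, 2), (5, 2)]],
     [[(3, 1)], [(2, 1), (3, 1)], [(1, 2)], [(0, 2), (1, 2)], [(7, 1)], [(6, 1), (7, 1)], [(5, 2)], [(4, 2), (5, 2)]],
     [[(3, 2)], [(2, 2), (3, 2)], [(1, 2)], [(0, 2), (1, 2)], [(7, 1)], [(6, 1), (7, 1)], [(5, 1)], [(4, 1), (5, 1)]],
     [[(3, 1)], [(2, 1), (3, 1)], [(1, 2)], [(0, 2), (1, 2)], [(7, 2)], [(6, 2), (7, 2)], [(5, 1)], [(4, 1), (5, 1)]],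
     [[(5, 2)], [(4, 2), (5, 2)], [(7, 2)], [(6, 2), (7, 2)], [(1, 2)], [(0, 2), (1, 2)], [(3, 2)], [(2, 2), (3, 2)]],
     [[(5, 2)], [(4, 2), (5, 2)], [(7, 1)], [(6, 1), (7, 1)], [(1, 2)], [(0, 2), (1, 2)], [(3, 1)], [(2, 1), (3, 1)]],
     [[(5, 1)], [(4, 1), (5, 1)], [(7, 1)], [(6, 1), (7, 1)], [(1, 2)], [(0, 2), (1, 2)], [(3, 2)], [(2, 2), (3, 2)]],
     [[(5, 1)], [(4, 1), (5, 1)], [(7, 2)], [(6, 2), (7, 2)], [(1, 2)], [(0, 2), (1, 2)], [(3, 1)], [(2, 1), (3, 1)]],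
     [[(7, 2)], [(6, 2), (7, 2)], [(5, 2)], [(4, 2), (5, 2)], [(3, 2)], [(2, 2), (3, 2)], [(1, 2)], [(0, 2), (1, 2)]],
     [[(7, 1)], [(6, 1), (7, 1)], [(5, 2)], [(4, 2), (5, 2)], [(3, 1)], [(2, 1), (3, 1)], [(1, 2)], [(0, 2), (1, 2)]],
     [[(7, 1)], [(6, 1), (7, 1)], [(5, 1)], [(4, 1), (5, 1)], [(3, 2)], [(2, 2), (3, 2)], [(1, 2)], [(0, 2), (1, 2)]],
     [[(7, 2)], [(6, 2), (7, 2)], [(5, 1)], [(4, 1), (5, 1)], [(3, 1)], [(2, 1), (3, 1)], [(1, 2)], [(0, 2), (1, 2)]],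
     [[(0, 2), (1, 2)], [(0, 2), (1, 1)], [(2, 2), (3, 2)], [(2, 2), (3, 1)], [(4, 2), (5, 2)], [(4, 2), (5, 1)], [(6, 2), (7, 2)], [(6, 2), (7, 1)]],
     [[(0, 2), (1, 2)], [(0, 2), (1, 1)], [(2, 1), (3, 1)], [(2, 1), (3, 2)], [(4, 2), (5, 2)], [(4, 2), (5, 1)], [(6, 1), (7, 1)], [(6, 1), (7, 2)]],
     [[(0, 2), (1, 2)], [(0, 2), (1, 1)], [(2, 2), (3, 2)], [(2, 2), (3, 1)], [(4, 1), (5, 1)], [(4, 1), (5, 2)], [(6, 1), (7, 1)], [(6, 1), (7, 2)]],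
     [[(0, 2), (1, 2)], [(0, 2), (1, 1)], [(2, 1), (3, 1)], [(2, 1), (3, 2)], [(4, 1), (5, 1)], [(4, 1), (5, 2)], [(6, 2), (7, 2)], [(6, 2), (7, 1)]],
     [[(2, 2), (3, 2)], [(2, 2), (3, 1)], [(0, 2), (1, 2)], [(0, 2), (1, 1)], [(6, 2), (7, 2)], [(6, 2), (7, 1)], [(4, 2), (5, 2)], [(4, 2), (5, 1)]],
     [[(2, 1), (3, 1)], [(2, 1), (3, 2)], [(0, 2), (1, 2)], [(0, 2), (1, 1)], [(6, 1), (7, 1)], [(6, 1), (7, 2)], [(4, 2), (5, 2)], [(4, 2), (5, 1)]],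
     [[(2, 2), (3, 2)], [(2, 2), (3, 1)], [(0, 2), (1, 2)], [(0, 2), (1, 1)], [(6, 1), (7, 1)], [(6, 1), (7, 2)], [(4, 1), (5, 1)], [(4, 1), (5, 2)]],
     [[(2, 1), (3, 1)], [(2, 1), (3, 2)], [(0, 2), (1, 2)], [(0, 2), (1, 1)], [(6, 2), (7, 2)], [(6, 2), (7, 1)], [(4, 1), (5, 1)], [(4, 1), (5, 2)]],
     [[(4, 2), (5, 2)], [(4, 2), (5, 1)], [(6, 2), (7, 2)], [(6, 2), (7, 1)], [(0, 2), (1, 2)], [(0, 2), (1, 1)], [(2, 2), (3, 2)], [(2, 2), (3, 1)]],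
     [[(4, 2), (5, 2)], [(4, 2), (5, 1)], [(6, 1), (7, 1)], [(6, 1), (7, 2)], [(0, 2), (1, 2)], [(0, 2), (1, 1)], [(2, 1), (3, 1)], [(2, 1), (3, 2)]],
     [[(4, 1), (5, 1)], [(4, 1), (5, 2)], [(6, 1), (7, 1)], [(6, 1), (7, 2)], [(0, 2), (1, 2)], [(0, 2), (1, 1)], [(2, 2), (3, 2)], [(2, 2), (3, 1)]],
     [[(4, 1), (5, 1)], [(4, 1), (5, 2)], [(6, 2), (7, 2)], [(6, 2), (7, 1)], [(0, 2), (1, 2)], [(0, 2), (1, 1)], [(2, 1), (3, 1)], [(2, 1), (3, 2)]],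
     [[(6, 2), (7, 2)], [(6, 2), (7, 1)], [(4, 2), (5, 2)], [(4, 2), (5, 1)], [(2, 2), (3, 2)], [(2, 2), (3, 1)], [(0, 2), (1, 2)], [(0, 2), (1, 1)]],
     [[(6, 1), (7, 1)], [(6, 1), (7, 2)], [(4, 2), (5, 2)], [(4, 2), (5, 1)], [(2, 1), (3, 1)], [(2, 1), (3, 2)], [(0, 2), (1, 2)], [(0, 2), (1, 1)]],
     [[(6, 1), (7, 1)], [(6, 1), (7, 2)], [(4, 1), (5, 1)], [(4, 1), (5, 2)], [(2, 2), (3, 2)], [(2, 2), (3, 1)], [(0, 2), (1, 2)], [(0, 2), (1, 1)]],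
     [[(6, 2), (7, 2)], [(6, 2), (7, 1)], [(4, 1), (5, 1)], [(4, 1), (5, 2)], [(2, 1), (3, 1)], [(2, 1), (3, 2)], [(0, 2), (1, 2)], [(0, 2), (1, 1)]],
     [[(0, 2), (1, 1)], [(0, 1)], [(2, 2), (3, 1)], [(2, 1)], [(4, 2), (5, 1)], [(4, 1)], [(6, 2), (7, 1)], [(6, 1)]],
     [[(0, 2), (1, 1)], [(0, 1)], [(2, 1), (3, 2)], [(2, 2)], [(4, 2), (5, 1)], [(4, 1)], [(6, 1), (7, 2)], [(6, 2)]],
     [[(0, 2), (1, 1)], [(0, 1)], [(2, 2), (3, 1)], [(2, 1)], [(4, 1), (5, 2)], [(4, 2)], [(6, 1), (7, 2)], [(6, 2)]],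
     [[(0, 2), (1, 1)], [(0, 1)], [(2, 1), (3, 2)], [(2, 2)], [(4, 1), (5, 2)], [(4, 2)], [(6, 2), (7, 1)], [(6, 1)]],
     [[(2, 2), (3, 1)], [(2, 1)], [(0, 2), (1, 1)], [(0, 1)], [(6, 2), (7, 1)], [(6, 1)], [(4, 2), (5, 1)], [(4, 1)]],
     [[(2, 1), (3, 2)], [(2, 2)], [(0, 2), (1, 1)], [(0, 1)], [(6, 1), (7, 2)], [(6, 2)], [(4, 2), (5, 1)], [(4, 1)]],
     [[(2, 2), (3, 1)], [(2, 1)], [(0, 2), (1, 1)], [(0, 1)], [(6, 1), (7, 2)], [(6, 2)], [(4, 1), (5, 2)], [(4, 2)]],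
     [[(2, 1), (3, 2)], [(2, 2)], [(0, 2), (1, 1)], [(0, 1)], [(6, 2), (7, 1)], [(6, 1)], [(4, 1), (5, 2)], [(4, 2)]],
     [[(4, 2), (5, 1)], [(4, 1)], [(6, 2), (7, 1)], [(6, 1)], [(0, 2), (1, 1)], [(0, 1)], [(2, 2), (3, 1)], [(2, 1)]],
     [[(4, 2), (5, 1)], [(4, 1)], [(6, 1), (7, 2)], [(6, 2)], [(0, 2), (1, 1)], [(0, 1)], [(2, 1), (3, 2)], [(2, 2)]],
     [[(4, 1), (5, 2)], [(4, 2)], [(6, 1), (7, 2)], [(6, 2)], [(0, 2), (1, 1)], [(0, 1)], [(2, 2), (3, 1)], [(2, 1)]],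
     [[(4, 1), (5, 2)], [(4, 2)], [(6, 2), (7, 1)], [(6, 1)], [(0, 2), (1, 1)], [(0, 1)], [(2, 1), (3, 2)], [(2, 2)]],
     [[(6, 2), (7, 1)], [(6, 1)], [(4, 2), (5, 1)], [(4, 1)], [(2, 2), (3, 1)], [(2, 1)], [(0, 2), (1, 1)], [(0, 1)]],
     [[(6, 1), (7, 2)], [(6, 2)], [(4, 2), (5, 1)], [(4, 1)], [(2, 1), (3, 2)], [(2, 2)], [(0, 2), (1, 1)], [(0, 1)]],
     [[(6, 1), (7, 2)], [(6, 2)], [(4, 1), (5, 2)], [(4, 2)], [(2, 2), (3, 1)], [(2, 1)], [(0, 2), (1, 1)], [(0, 1)]],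
     [[(6, 2), (7, 1)], [(6, 1)], [(4, 1), (5, 2)], [(4, 2)], [(2, 1), (3, 2)], [(2, 2)], [(0, 2), (1, 1)], [(0, 1)]]]⟩

theorem nine_table : tableOK nine = true := by decide +kernel

theorem nine_wf : wf nine = true := by decide +kernel

/-- Representatives of three regular classes of nine. -/
def nineClasses : List ℕ := [35652097, 16842768, 536879377]

theorem nine_classes : (nineClasses.all (regular nine) && apart nine 35652097 16842768 &&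
    apart nine 35652097 536879377 && apart nine 16842768 536879377) = true := by decide +kernel

/-- The model of the extraspecial group of plus type on four coordinates over three elements. -/
def plusTwo : Model :=
  ⟨3, 4, [[[(0, 1)], [(1, 2)], [(2, 1)], [(3, 2)]], [[(0, 1)], [(1, 1)], [(2, 2)], [(3, 2)]], [[(1, 1)], [(0, 1)], [(3, 1)], [(2, 1)]], [[(2, 1)], [(3, 1)], [(0, 1)], [(1, 1)]], [[(0, 2)], [(1, 2)], [(2, 2)], [(3, 2)]]],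
    [[[(0, 1)], [(1, 1)], [(2, 1)], [(3, 1)]],
     [[(0, 1)], [(1, 2)], [(2, 1)], [(3, 2)]],
     [[(0, 1)], [(1, 1)], [(2, 2)], [(3, 2)]],
     [[(0, 1)], [(1, 2)], [(2, 2)], [(3, 1)]],
     [[(1, 1)], [(0, 1)], [(3, 1)], [(2, 1)]],
     [[(1, 2)], [(0, 1)], [(3, 2)], [(2, 1)]],
     [[(1, 1)], [(0, 1)], [(3, 2)], [(2, 2)]],
     [[(1, 2)], [(0, 1)], [(3, 1)], [(2, 2)]],
     [[(2, 1)], [(3, 1)], [(0, 1)], [(1, 1)]],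
     [[(2, 1)], [(3, 2)], [(0, 1)], [(1, 2)]],
     [[(2, 2)], [(3, 2)], [(0, 1)], [(1, 1)]],
     [[(2, 2)], [(3, 1)], [(0, 1)], [(1, 2)]],
     [[(3, 1)], [(2, 1)], [(1, 1)], [(0, 1)]],
     [[(3, 2)], [(2, 1)], [(1, 2)], [(0, 1)]],
     [[(3, 2)], [(2, 2)], [(1, 1)], [(0, 1)]],
     [[(3, 1)], [(2, 2)], [(1, 2)], [(0, 1)]],
     [[(0, 2)], [(1, 2)], [(2, 2)], [(3, 2)]],
     [[(0, 2)], [(1, 1)], [(2, 2)], [(3, 1)]],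
     [[(0, 2)], [(1, 2)], [(2, 1)], [(3, 1)]],
     [[(0, 2)], [(1, 1)], [(2, 1)], [(3, 2)]],
     [[(1, 2)], [(0, 2)], [(3, 2)], [(2, 2)]],
     [[(1, 1)], [(0, 2)], [(3, 1)], [(2, 2)]],
     [[(1, 2)], [(0, 2)], [(3, 1)], [(2, 1)]],
     [[(1, 1)], [(0, 2)], [(3, 2)], [(2, 1)]],
     [[(2, 2)], [(3, 2)], [(0, 2)], [(1, 2)]],
     [[(2, 2)], [(3, 1)], [(0, 2)], [(1, 1)]],
     [[(2, 1)], [(3, 1)], [(0, 2)], [(1, 2)]],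
     [[(2, 1)], [(3, 2)], [(0, 2)], [(1, 1)]],
     [[(3, 2)], [(2, 2)], [(1, 2)], [(0, 2)]],
     [[(3, 1)], [(2, 2)], [(1, 1)], [(0, 2)]],
     [[(3, 1)], [(2, 1)], [(1, 2)], [(0, 2)]],
     [[(3, 2)], [(2, 1)], [(1, 1)], [(0, 2)]]]⟩

theorem plusTwo_table : tableOK plusTwo = true := by decide +kernel

theorem plusTwo_wf : wf plusTwo = true := by decide +kernel

/-- The model of the extraspecial group of plus type on eight coordinates over three elements. -/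
def plusThree : Model :=
  ⟨3, 8, [[[(0, 1)], [(1, 2)], [(2, 1)], [(3, 2)], [(4, 1)], [(5, 2)], [(6, 1)], [(7, 2)]], [[(0, 1)], [(1, 1)], [(2, 2)], [(3, 2)], [(4, 1)], [(5, 1)], [(6, 2)], [(7, 2)]], [[(0, 1)], [(1, 1)], [(2, 1)], [(3, 1)], [(4, 2)], [(5, 2)], [(6, 2)], [(7, 2)]], [[(1, 1)], [(0, 1)], [(3, 1)], [(2, 1)], [(5, 1)], [(4, 1)], [(7, 1)], [(6, 1)]], [[(2, 1)], [(3, 1)], [(0, 1)], [(1, 1)], [(6, 1)], [(7, 1)], [(4, 1)], [(5, 1)]], [[(4, 1)], [(5, 1)], [(6, 1)], [(7, 1)], [(0, 1)], [(1, 1)], [(2, 1)], [(3, 1)]], [[(0, 2)], [(1, 2)], [(2, 2)], [(3, 2)], [(4, 2)], [(5, 2)], [(6, 2)], [(7, 2)]]],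
    [[[(0, 1)], [(1, 1)], [(2, 1)], [(3, 1)], [(4, 1)], [(5, 1)], [(6, 1)], [(7, 1)]],
     [[(0, 1)], [(1, 2)], [(2, 1)], [(3, 2)], [(4, 1)], [(5, 2)], [(6, 1)], [(7, 2)]],
     [[(0, 1)], [(1, 1)], [(2, 2)], [(3, 2)], [(4, 1)], [(5, 1)], [(6, 2)], [(7, 2)]],
     [[(0, 1)], [(1, 2)], [(2, 2)], [(3, 1)], [(4, 1)], [(5, 2)], [(6, 2)], [(7, 1)]],
     [[(0, 1)], [(1, 1)], [(2, 1)], [(3, 1)], [(4, 2)], [(5, 2)], [(6, 2)], [(7, 2)]],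
     [[(0, 1)], [(1, 2)], [(2, 1)], [(3, 2)], [(4, 2)], [(5, 1)], [(6, 2)], [(7, 1)]],
     [[(0, 1)], [(1, 1)], [(2, 2)], [(3, 2)], [(4, 2)], [(5, 2)], [(6, 1)], [(7, 1)]],
     [[(0, 1)], [(1, 2)], [(2, 2)], [(3, 1)], [(4, 2)], [(5, 1)], [(6, 1)], [(7, 2)]],
     [[(1, 1)], [(0, 1)], [(3, 1)], [(2, 1)], [(5, 1)], [(4, 1)], [(7, 1)], [(6, 1)]],
     [[(1, 2)], [(0, 1)], [(3, 2)], [(2, 1)], [(5, 2)], [(4, 1)], [(7, 2)], [(6, 1)]],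
     [[(1, 1)], [(0, 1)], [(3, 2)], [(2, 2)], [(5, 1)], [(4, 1)], [(7, 2)], [(6, 2)]],
     [[(1, 2)], [(0, 1)], [(3, 1)], [(2, 2)], [(5, 2)], [(4, 1)], [(7, 1)], [(6, 2)]],
     [[(1, 1)], [(0, 1)], [(3, 1)], [(2, 1)], [(5, 2)], [(4, 2)], [(7, 2)], [(6, 2)]],
     [[(1, 2)], [(0, 1)], [(3, 2)], [(2, 1)], [(5, 1)], [(4, 2)], [(7, 1)], [(6, 2)]],
     [[(1, 1)], [(0, 1)], [(3, 2)], [(2, 2)], [(5, 2)], [(4, 2)], [(7, 1)], [(6, 1)]],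
     [[(1, 2)], [(0, 1)], [(3, 1)], [(2, 2)], [(5, 1)], [(4, 2)], [(7, 2)], [(6, 1)]],
     [[(2, 1)], [(3, 1)], [(0, 1)], [(1, 1)], [(6, 1)], [(7, 1)], [(4, 1)], [(5, 1)]],
     [[(2, 1)], [(3, 2)], [(0, 1)], [(1, 2)], [(6, 1)], [(7, 2)], [(4, 1)], [(5, 2)]],
     [[(2, 2)], [(3, 2)], [(0, 1)], [(1, 1)], [(6, 2)], [(7, 2)], [(4, 1)], [(5, 1)]],
     [[(2, 2)], [(3, 1)], [(0, 1)], [(1, 2)], [(6, 2)], [(7, 1)], [(4, 1)], [(5, 2)]],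
     [[(2, 1)], [(3, 1)], [(0, 1)], [(1, 1)], [(6, 2)], [(7, 2)], [(4, 2)], [(5, 2)]],
     [[(2, 1)], [(3, 2)], [(0, 1)], [(1, 2)], [(6, 2)], [(7, 1)], [(4, 2)], [(5, 1)]],
     [[(2, 2)], [(3, 2)], [(0, 1)], [(1, 1)], [(6, 1)], [(7, 1)], [(4, 2)], [(5, 2)]],
     [[(2, 2)], [(3, 1)], [(0, 1)], [(1, 2)], [(6, 1)], [(7, 2)], [(4, 2)], [(5, 1)]],
     [[(3, 1)], [(2, 1)], [(1, 1)], [(0, 1)], [(7, 1)], [(6, 1)], [(5, 1)], [(4, 1)]],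
     [[(3, 2)], [(2, 1)], [(1, 2)], [(0, 1)], [(7, 2)], [(6, 1)], [(5, 2)], [(4, 1)]],
     [[(3, 2)], [(2, 2)], [(1, 1)], [(0, 1)], [(7, 2)], [(6, 2)], [(5, 1)], [(4, 1)]],
     [[(3, 1)], [(2, 2)], [(1, 2)], [(0, 1)], [(7, 1)], [(6, 2)], [(5, 2)], [(4, 1)]],
     [[(3, 1)], [(2, 1)], [(1, 1)], [(0, 1)], [(7, 2)], [(6, 2)], [(5, 2)], [(4, 2)]],
     [[(3, 2)], [(2, 1)], [(1, 2)], [(0, 1)], [(7, 1)], [(6, 2)], [(5, 1)], [(4, 2)]],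
     [[(3, 2)], [(2, 2)], [(1, 1)], [(0, 1)], [(7, 1)], [(6, 1)], [(5, 2)], [(4, 2)]],
     [[(3, 1)], [(2, 2)], [(1, 2)], [(0, 1)], [(7, 2)], [(6, 1)], [(5, 1)], [(4, 2)]],
     [[(4, 1)], [(5, 1)], [(6, 1)], [(7, 1)], [(0, 1)], [(1, 1)], [(2, 1)], [(3, 1)]],
     [[(4, 1)], [(5, 2)], [(6, 1)], [(7, 2)], [(0, 1)], [(1, 2)], [(2, 1)], [(3, 2)]],
     [[(4, 1)], [(5, 1)], [(6, 2)], [(7, 2)], [(0, 1)], [(1, 1)], [(2, 2)], [(3, 2)]],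
     [[(4, 1)], [(5, 2)], [(6, 2)], [(7, 1)], [(0, 1)], [(1, 2)], [(2, 2)], [(3, 1)]],
     [[(4, 2)], [(5, 2)], [(6, 2)], [(7, 2)], [(0, 1)], [(1, 1)], [(2, 1)], [(3, 1)]],
     [[(4, 2)], [(5, 1)], [(6, 2)], [(7, 1)], [(0, 1)], [(1, 2)], [(2, 1)], [(3, 2)]],
     [[(4, 2)], [(5, 2)], [(6, 1)], [(7, 1)], [(0, 1)], [(1, 1)], [(2, 2)], [(3, 2)]],
     [[(4, 2)], [(5, 1)], [(6, 1)], [(7, 2)], [(0, 1)], [(1, 2)], [(2, 2)], [(3, 1)]],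
     [[(5, 1)], [(4, 1)], [(7, 1)], [(6, 1)], [(1, 1)], [(0, 1)], [(3, 1)], [(2, 1)]],
     [[(5, 2)], [(4, 1)], [(7, 2)], [(6, 1)], [(1, 2)], [(0, 1)], [(3, 2)], [(2, 1)]],
     [[(5, 1)], [(4, 1)], [(7, 2)], [(6, 2)], [(1, 1)], [(0, 1)], [(3, 2)], [(2, 2)]],
     [[(5, 2)], [(4, 1)], [(7, 1)], [(6, 2)], [(1, 2)], [(0, 1)], [(3, 1)], [(2, 2)]],
     [[(5, 2)], [(4, 2)], [(7, 2)], [(6, 2)], [(1, 1)], [(0, 1)], [(3, 1)], [(2, 1)]],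
     [[(5, 1)], [(4, 2)], [(7, 1)], [(6, 2)], [(1, 2)], [(0, 1)], [(3, 2)], [(2, 1)]],
     [[(5, 2)], [(4, 2)], [(7, 1)], [(6, 1)], [(1, 1)], [(0, 1)], [(3, 2)], [(2, 2)]],
     [[(5, 1)], [(4, 2)], [(7, 2)], [(6, 1)], [(1, 2)], [(0, 1)], [(3, 1)], [(2, 2)]],
     [[(6, 1)], [(7, 1)], [(4, 1)], [(5, 1)], [(2, 1)], [(3, 1)], [(0, 1)], [(1, 1)]],
     [[(6, 1)], [(7, 2)], [(4, 1)], [(5, 2)], [(2, 1)], [(3, 2)], [(0, 1)], [(1, 2)]],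
     [[(6, 2)], [(7, 2)], [(4, 1)], [(5, 1)], [(2, 2)], [(3, 2)], [(0, 1)], [(1, 1)]],
     [[(6, 2)], [(7, 1)], [(4, 1)], [(5, 2)], [(2, 2)], [(3, 1)], [(0, 1)], [(1, 2)]],
     [[(6, 2)], [(7, 2)], [(4, 2)], [(5, 2)], [(2, 1)], [(3, 1)], [(0, 1)], [(1, 1)]],
     [[(6, 2)], [(7, 1)], [(4, 2)], [(5, 1)], [(2, 1)], [(3, 2)], [(0, 1)], [(1, 2)]],
     [[(6, 1)], [(7, 1)], [(4, 2)], [(5, 2)], [(2, 2)], [(3, 2)], [(0, 1)], [(1, 1)]],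
     [[(6, 1)], [(7, 2)], [(4, 2)], [(5, 1)], [(2, 2)], [(3, 1)], [(0, 1)], [(1, 2)]],
     [[(7, 1)], [(6, 1)], [(5, 1)], [(4, 1)], [(3, 1)], [(2, 1)], [(1, 1)], [(0, 1)]],
     [[(7, 2)], [(6, 1)], [(5, 2)], [(4, 1)], [(3, 2)], [(2, 1)], [(1, 2)], [(0, 1)]],
     [[(7, 2)], [(6, 2)], [(5, 1)], [(4, 1)], [(3, 2)], [(2, 2)], [(1, 1)], [(0, 1)]],
     [[(7, 1)], [(6, 2)], [(5, 2)], [(4, 1)], [(3, 1)], [(2, 2)], [(1, 2)], [(0, 1)]],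
     [[(7, 2)], [(6, 2)], [(5, 2)], [(4, 2)], [(3, 1)], [(2, 1)], [(1, 1)], [(0, 1)]],
     [[(7, 1)], [(6, 2)], [(5, 1)], [(4, 2)], [(3, 2)], [(2, 1)], [(1, 2)], [(0, 1)]],
     [[(7, 1)], [(6, 1)], [(5, 2)], [(4, 2)], [(3, 2)], [(2, 2)], [(1, 1)], [(0, 1)]],
     [[(7, 2)], [(6, 1)], [(5, 1)], [(4, 2)], [(3, 1)], [(2, 2)], [(1, 2)], [(0, 1)]],
     [[(0, 2)], [(1, 2)], [(2, 2)], [(3, 2)], [(4, 2)], [(5, 2)], [(6, 2)], [(7, 2)]],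
     [[(0, 2)], [(1, 1)], [(2, 2)], [(3, 1)], [(4, 2)], [(5, 1)], [(6, 2)], [(7, 1)]],
     [[(0, 2)], [(1, 2)], [(2, 1)], [(3, 1)], [(4, 2)], [(5, 2)], [(6, 1)], [(7, 1)]],
     [[(0, 2)], [(1, 1)], [(2, 1)], [(3, 2)], [(4, 2)], [(5, 1)], [(6, 1)], [(7, 2)]],
     [[(0, 2)], [(1, 2)], [(2, 2)], [(3, 2)], [(4, 1)], [(5, 1)], [(6, 1)], [(7, 1)]],
     [[(0, 2)], [(1, 1)], [(2, 2)], [(3, 1)], [(4, 1)], [(5, 2)], [(6, 1)], [(7, 2)]],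
     [[(0, 2)], [(1, 2)], [(2, 1)], [(3, 1)], [(4, 1)], [(5, 1)], [(6, 2)], [(7, 2)]],
     [[(0, 2)], [(1, 1)], [(2, 1)], [(3, 2)], [(4, 1)], [(5, 2)], [(6, 2)], [(7, 1)]],
     [[(1, 2)], [(0, 2)], [(3, 2)], [(2, 2)], [(5, 2)], [(4, 2)], [(7, 2)], [(6, 2)]],
     [[(1, 1)], [(0, 2)], [(3, 1)], [(2, 2)], [(5, 1)], [(4, 2)], [(7, 1)], [(6, 2)]],
     [[(1, 2)], [(0, 2)], [(3, 1)], [(2, 1)], [(5, 2)], [(4, 2)], [(7, 1)], [(6, 1)]],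
     [[(1, 1)], [(0, 2)], [(3, 2)], [(2, 1)], [(5, 1)], [(4, 2)], [(7, 2)], [(6, 1)]],
     [[(1, 2)], [(0, 2)], [(3, 2)], [(2, 2)], [(5, 1)], [(4, 1)], [(7, 1)], [(6, 1)]],
     [[(1, 1)], [(0, 2)], [(3, 1)], [(2, 2)], [(5, 2)], [(4, 1)], [(7, 2)], [(6, 1)]],
     [[(1, 2)], [(0, 2)], [(3, 1)], [(2, 1)], [(5, 1)], [(4, 1)], [(7, 2)], [(6, 2)]],
     [[(1, 1)], [(0, 2)], [(3, 2)], [(2, 1)], [(5, 2)], [(4, 1)], [(7, 1)], [(6, 2)]],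
     [[(2, 2)], [(3, 2)], [(0, 2)], [(1, 2)], [(6, 2)], [(7, 2)], [(4, 2)], [(5, 2)]],
     [[(2, 2)], [(3, 1)], [(0, 2)], [(1, 1)], [(6, 2)], [(7, 1)], [(4, 2)], [(5, 1)]],
     [[(2, 1)], [(3, 1)], [(0, 2)], [(1, 2)], [(6, 1)], [(7, 1)], [(4, 2)], [(5, 2)]],
     [[(2, 1)], [(3, 2)], [(0, 2)], [(1, 1)], [(6, 1)], [(7, 2)], [(4, 2)], [(5, 1)]],
     [[(2, 2)], [(3, 2)], [(0, 2)], [(1, 2)], [(6, 1)], [(7, 1)], [(4, 1)], [(5, 1)]],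
     [[(2, 2)], [(3, 1)], [(0, 2)], [(1, 1)], [(6, 1)], [(7, 2)], [(4, 1)], [(5, 2)]],
     [[(2, 1)], [(3, 1)], [(0, 2)], [(1, 2)], [(6, 2)], [(7, 2)], [(4, 1)], [(5, 1)]],
     [[(2, 1)], [(3, 2)], [(0, 2)], [(1, 1)], [(6, 2)], [(7, 1)], [(4, 1)], [(5, 2)]],
     [[(3, 2)], [(2, 2)], [(1, 2)], [(0, 2)], [(7, 2)], [(6, 2)], [(5, 2)], [(4, 2)]],
     [[(3, 1)], [(2, 2)], [(1, 1)], [(0, 2)], [(7, 1)], [(6, 2)], [(5, 1)], [(4, 2)]],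
     [[(3, 1)], [(2, 1)], [(1, 2)], [(0, 2)], [(7, 1)], [(6, 1)], [(5, 2)], [(4, 2)]],
     [[(3, 2)], [(2, 1)], [(1, 1)], [(0, 2)], [(7, 2)], [(6, 1)], [(5, 1)], [(4, 2)]],
     [[(3, 2)], [(2, 2)], [(1, 2)], [(0, 2)], [(7, 1)], [(6, 1)], [(5, 1)], [(4, 1)]],
     [[(3, 1)], [(2, 2)], [(1, 1)], [(0, 2)], [(7, 2)], [(6, 1)], [(5, 2)], [(4, 1)]],
     [[(3, 1)], [(2, 1)], [(1, 2)], [(0, 2)], [(7, 2)], [(6, 2)], [(5, 1)], [(4, 1)]],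
     [[(3, 2)], [(2, 1)], [(1, 1)], [(0, 2)], [(7, 1)], [(6, 2)], [(5, 2)], [(4, 1)]],
     [[(4, 2)], [(5, 2)], [(6, 2)], [(7, 2)], [(0, 2)], [(1, 2)], [(2, 2)], [(3, 2)]],
     [[(4, 2)], [(5, 1)], [(6, 2)], [(7, 1)], [(0, 2)], [(1, 1)], [(2, 2)], [(3, 1)]],
     [[(4, 2)], [(5, 2)], [(6, 1)], [(7, 1)], [(0, 2)], [(1, 2)], [(2, 1)], [(3, 1)]],
     [[(4, 2)], [(5, 1)], [(6, 1)], [(7, 2)], [(0, 2)], [(1, 1)], [(2, 1)], [(3, 2)]],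
     [[(4, 1)], [(5, 1)], [(6, 1)], [(7, 1)], [(0, 2)], [(1, 2)], [(2, 2)], [(3, 2)]],
     [[(4, 1)], [(5, 2)], [(6, 1)], [(7, 2)], [(0, 2)], [(1, 1)], [(2, 2)], [(3, 1)]],
     [[(4, 1)], [(5, 1)], [(6, 2)], [(7, 2)], [(0, 2)], [(1, 2)], [(2, 1)], [(3, 1)]],
     [[(4, 1)], [(5, 2)], [(6, 2)], [(7, 1)], [(0, 2)], [(1, 1)], [(2, 1)], [(3, 2)]],
     [[(5, 2)], [(4, 2)], [(7, 2)], [(6, 2)], [(1, 2)], [(0, 2)], [(3, 2)], [(2, 2)]],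
     [[(5, 1)], [(4, 2)], [(7, 1)], [(6, 2)], [(1, 1)], [(0, 2)], [(3, 1)], [(2, 2)]],
     [[(5, 2)], [(4, 2)], [(7, 1)], [(6, 1)], [(1, 2)], [(0, 2)], [(3, 1)], [(2, 1)]],
     [[(5, 1)], [(4, 2)], [(7, 2)], [(6, 1)], [(1, 1)], [(0, 2)], [(3, 2)], [(2, 1)]],
     [[(5, 1)], [(4, 1)], [(7, 1)], [(6, 1)], [(1, 2)], [(0, 2)], [(3, 2)], [(2, 2)]],
     [[(5, 2)], [(4, 1)], [(7, 2)], [(6, 1)], [(1, 1)], [(0, 2)], [(3, 1)], [(2, 2)]],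
     [[(5, 1)], [(4, 1)], [(7, 2)], [(6, 2)], [(1, 2)], [(0, 2)], [(3, 1)], [(2, 1)]],
     [[(5, 2)], [(4, 1)], [(7, 1)], [(6, 2)], [(1, 1)], [(0, 2)], [(3, 2)], [(2, 1)]],
     [[(6, 2)], [(7, 2)], [(4, 2)], [(5, 2)], [(2, 2)], [(3, 2)], [(0, 2)], [(1, 2)]],
     [[(6, 2)], [(7, 1)], [(4, 2)], [(5, 1)], [(2, 2)], [(3, 1)], [(0, 2)], [(1, 1)]],
     [[(6, 1)], [(7, 1)], [(4, 2)], [(5, 2)], [(2, 1)], [(3, 1)], [(0, 2)], [(1, 2)]],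
     [[(6, 1)], [(7, 2)], [(4, 2)], [(5, 1)], [(2, 1)], [(3, 2)], [(0, 2)], [(1, 1)]],
     [[(6, 1)], [(7, 1)], [(4, 1)], [(5, 1)], [(2, 2)], [(3, 2)], [(0, 2)], [(1, 2)]],
     [[(6, 1)], [(7, 2)], [(4, 1)], [(5, 2)], [(2, 2)], [(3, 1)], [(0, 2)], [(1, 1)]],
     [[(6, 2)], [(7, 2)], [(4, 1)], [(5, 1)], [(2, 1)], [(3, 1)], [(0, 2)], [(1, 2)]],
     [[(6, 2)], [(7, 1)], [(4, 1)], [(5, 2)], [(2, 1)], [(3, 2)], [(0, 2)], [(1, 1)]],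
     [[(7, 2)], [(6, 2)], [(5, 2)], [(4, 2)], [(3, 2)], [(2, 2)], [(1, 2)], [(0, 2)]],
     [[(7, 1)], [(6, 2)], [(5, 1)], [(4, 2)], [(3, 1)], [(2, 2)], [(1, 1)], [(0, 2)]],
     [[(7, 1)], [(6, 1)], [(5, 2)], [(4, 2)], [(3, 1)], [(2, 1)], [(1, 2)], [(0, 2)]],
     [[(7, 2)], [(6, 1)], [(5, 1)], [(4, 2)], [(3, 2)], [(2, 1)], [(1, 1)], [(0, 2)]],
     [[(7, 1)], [(6, 1)], [(5, 1)], [(4, 1)], [(3, 2)], [(2, 2)], [(1, 2)], [(0, 2)]],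
     [[(7, 2)], [(6, 1)], [(5, 2)], [(4, 1)], [(3, 1)], [(2, 2)], [(1, 1)], [(0, 2)]],
     [[(7, 2)], [(6, 2)], [(5, 1)], [(4, 1)], [(3, 1)], [(2, 1)], [(1, 2)], [(0, 2)]],
     [[(7, 1)], [(6, 2)], [(5, 2)], [(4, 1)], [(3, 2)], [(2, 1)], [(1, 1)], [(0, 2)]]]⟩

theorem plusThree_table : tableOK plusThree = true := by decide +kernel

theorem plusThree_wf : wf plusThree = true := by decide +kernel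

/-- Representatives of three regular classes of plusThree. -/
def plusThreeClasses : List ℕ := [35655952, 33686032, 285343776]

theorem plusThree_classes : (plusThreeClasses.all (regular plusThree) && apart plusThree 35655952 33686032 &&
    apart plusThree 35655952 285343776 && apart plusThree 33686032 285343776) = true := by decide +kernel

/-- The model of the extraspecial group of minus type on eight coordinates over three elements. -/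
def minusThree : Model :=
  ⟨3, 8, [[[(0, 1)], [(1, 1)], [(2, 2)], [(3, 2)], [(4, 1)], [(5, 1)], [(6, 2)], [(7, 2)]], [[(0, 1)], [(1, 1)], [(2, 1)], [(3, 1)], [(4, 2)], [(5, 2)], [(6, 2)], [(7, 2)]], [[(2, 1)], [(3, 1)], [(0, 1)], [(1, 1)], [(6, 1)], [(7, 1)], [(4, 1)], [(5, 1)]], [[(4, 1)], [(5, 1)], [(6, 1)], [(7, 1)], [(0, 1)], [(1, 1)], [(2, 1)], [(3, 1)]], [[(1, 2)], [(0, 1)], [(3, 2)], [(2, 1)], [(5, 2)], [(4, 1)], [(7, 2)], [(6, 1)]], [[(0, 1), (1, 1)], [(0, 1), (1, 2)], [(2, 1), (3, 1)], [(2, 1), (3, 2)], [(4, 1), (5, 1)], [(4, 1), (5, 2)], [(6, 1), (7, 1)], [(6, 1), (7, 2)]], [[(0, 2)], [(1, 2)], [(2, 2)], [(3, 2)], [(4, 2)], [(5, 2)], [(6, 2)], [(7, 2)]]],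
    [[[(0, 1)], [(1, 1)], [(2, 1)], [(3, 1)], [(4, 1)], [(5, 1)], [(6, 1)], [(7, 1)]],
     [[(0, 1)], [(1, 1)], [(2, 2)], [(3, 2)], [(4, 1)], [(5, 1)], [(6, 2)], [(7, 2)]],
     [[(0, 1)], [(1, 1)], [(2, 1)], [(3, 1)], [(4, 2)], [(5, 2)], [(6, 2)], [(7, 2)]],
     [[(0, 1)], [(1, 1)], [(2, 2)], [(3, 2)], [(4, 2)], [(5, 2)], [(6, 1)], [(7, 1)]],
     [[(2, 1)], [(3, 1)], [(0, 1)], [(1, 1)], [(6, 1)], [(7, 1)], [(4, 1)], [(5, 1)]],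
     [[(2, 2)], [(3, 2)], [(0, 1)], [(1, 1)], [(6, 2)], [(7, 2)], [(4, 1)], [(5, 1)]],
     [[(2, 1)], [(3, 1)], [(0, 1)], [(1, 1)], [(6, 2)], [(7, 2)], [(4, 2)], [(5, 2)]],
     [[(2, 2)], [(3, 2)], [(0, 1)], [(1, 1)], [(6, 1)], [(7, 1)], [(4, 2)], [(5, 2)]],
     [[(4, 1)], [(5, 1)], [(6, 1)], [(7, 1)], [(0, 1)], [(1, 1)], [(2, 1)], [(3, 1)]],
     [[(4, 1)], [(5, 1)], [(6, 2)], [(7, 2)], [(0, 1)], [(1, 1)], [(2, 2)], [(3, 2)]],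
     [[(4, 2)], [(5, 2)], [(6, 2)], [(7, 2)], [(0, 1)], [(1, 1)], [(2, 1)], [(3, 1)]],
     [[(4, 2)], [(5, 2)], [(6, 1)], [(7, 1)], [(0, 1)], [(1, 1)], [(2, 2)], [(3, 2)]],
     [[(6, 1)], [(7, 1)], [(4, 1)], [(5, 1)], [(2, 1)], [(3, 1)], [(0, 1)], [(1, 1)]],
     [[(6, 2)], [(7, 2)], [(4, 1)], [(5, 1)], [(2, 2)], [(3, 2)], [(0, 1)], [(1, 1)]],
     [[(6, 2)], [(7, 2)], [(4, 2)], [(5, 2)], [(2, 1)], [(3, 1)], [(0, 1)], [(1, 1)]],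
     [[(6, 1)], [(7, 1)], [(4, 2)], [(5, 2)], [(2, 2)], [(3, 2)], [(0, 1)], [(1, 1)]],
     [[(1, 2)], [(0, 1)], [(3, 2)], [(2, 1)], [(5, 2)], [(4, 1)], [(7, 2)], [(6, 1)]],
     [[(1, 2)], [(0, 1)], [(3, 1)], [(2, 2)], [(5, 2)], [(4, 1)], [(7, 1)], [(6, 2)]],
     [[(1, 2)], [(0, 1)], [(3, 2)], [(2, 1)], [(5, 1)], [(4, 2)], [(7, 1)], [(6, 2)]],
     [[(1, 2)], [(0, 1)], [(3, 1)], [(2, 2)], [(5, 1)], [(4, 2)], [(7, 2)], [(6, 1)]],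
     [[(3, 2)], [(2, 1)], [(1, 2)], [(0, 1)], [(7, 2)], [(6, 1)], [(5, 2)], [(4, 1)]],
     [[(3, 1)], [(2, 2)], [(1, 2)], [(0, 1)], [(7, 1)], [(6, 2)], [(5, 2)], [(4, 1)]],
     [[(3, 2)], [(2, 1)], [(1, 2)], [(0, 1)], [(7, 1)], [(6, 2)], [(5, 1)], [(4, 2)]],
     [[(3, 1)], [(2, 2)], [(1, 2)], [(0, 1)], [(7, 2)], [(6, 1)], [(5, 1)], [(4, 2)]],
     [[(5, 2)], [(4, 1)], [(7, 2)], [(6, 1)], [(1, 2)], [(0, 1)], [(3, 2)], [(2, 1)]],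
     [[(5, 2)], [(4, 1)], [(7, 1)], [(6, 2)], [(1, 2)], [(0, 1)], [(3, 1)], [(2, 2)]],
     [[(5, 1)], [(4, 2)], [(7, 1)], [(6, 2)], [(1, 2)], [(0, 1)], [(3, 2)], [(2, 1)]],
     [[(5, 1)], [(4, 2)], [(7, 2)], [(6, 1)], [(1, 2)], [(0, 1)], [(3, 1)], [(2, 2)]],
     [[(7, 2)], [(6, 1)], [(5, 2)], [(4, 1)], [(3, 2)], [(2, 1)], [(1, 2)], [(0, 1)]],
     [[(7, 1)], [(6, 2)], [(5, 2)], [(4, 1)], [(3, 1)], [(2, 2)], [(1, 2)], [(0, 1)]],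
     [[(7, 1)], [(6, 2)], [(5, 1)], [(4, 2)], [(3, 2)], [(2, 1)], [(1, 2)], [(0, 1)]],
     [[(7, 2)], [(6, 1)], [(5, 1)], [(4, 2)], [(3, 1)], [(2, 2)], [(1, 2)], [(0, 1)]],
     [[(0, 1), (1, 1)], [(0, 1), (1, 2)], [(2, 1), (3, 1)], [(2, 1), (3, 2)], [(4, 1), (5, 1)], [(4, 1), (5, 2)], [(6, 1), (7, 1)], [(6, 1), (7, 2)]],
     [[(0, 1), (1, 1)], [(0, 1), (1, 2)], [(2, 2), (3, 2)], [(2, 2), (3, 1)], [(4, 1), (5, 1)], [(4, 1), (5, 2)], [(6, 2), (7, 2)], [(6, 2), (7, 1)]],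
     [[(0, 1), (1, 1)], [(0, 1), (1, 2)], [(2, 1), (3, 1)], [(2, 1), (3, 2)], [(4, 2), (5, 2)], [(4, 2), (5, 1)], [(6, 2), (7, 2)], [(6, 2), (7, 1)]],
     [[(0, 1), (1, 1)], [(0, 1), (1, 2)], [(2, 2), (3, 2)], [(2, 2), (3, 1)], [(4, 2), (5, 2)], [(4, 2), (5, 1)], [(6, 1), (7, 1)], [(6, 1), (7, 2)]],
     [[(2, 1), (3, 1)], [(2, 1), (3, 2)], [(0, 1), (1, 1)], [(0, 1), (1, 2)], [(6, 1), (7, 1)], [(6, 1), (7, 2)], [(4, 1), (5, 1)], [(4, 1), (5, 2)]],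
     [[(2, 2), (3, 2)], [(2, 2), (3, 1)], [(0, 1), (1, 1)], [(0, 1), (1, 2)], [(6, 2), (7, 2)], [(6, 2), (7, 1)], [(4, 1), (5, 1)], [(4, 1), (5, 2)]],
     [[(2, 1), (3, 1)], [(2, 1), (3, 2)], [(0, 1), (1, 1)], [(0, 1), (1, 2)], [(6, 2), (7, 2)], [(6, 2), (7, 1)], [(4, 2), (5, 2)], [(4, 2), (5, 1)]],
     [[(2, 2), (3, 2)], [(2, 2), (3, 1)], [(0, 1), (1, 1)], [(0, 1), (1, 2)], [(6, 1), (7, 1)], [(6, 1), (7, 2)], [(4, 2), (5, 2)], [(4, 2), (5, 1)]],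
     [[(4, 1), (5, 1)], [(4, 1), (5, 2)], [(6, 1), (7, 1)], [(6, 1), (7, 2)], [(0, 1), (1, 1)], [(0, 1), (1, 2)], [(2, 1), (3, 1)], [(2, 1), (3, 2)]],
     [[(4, 1), (5, 1)], [(4, 1), (5, 2)], [(6, 2), (7, 2)], [(6, 2), (7, 1)], [(0, 1), (1, 1)], [(0, 1), (1, 2)], [(2, 2), (3, 2)], [(2, 2), (3, 1)]],
     [[(4, 2), (5, 2)], [(4, 2), (5, 1)], [(6, 2), (7, 2)], [(6, 2), (7, 1)], [(0, 1), (1, 1)], [(0, 1), (1, 2)], [(2, 1), (3, 1)], [(2, 1), (3, 2)]],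
     [[(4, 2), (5, 2)], [(4, 2), (5, 1)], [(6, 1), (7, 1)], [(6, 1), (7, 2)], [(0, 1), (1, 1)], [(0, 1), (1, 2)], [(2, 2), (3, 2)], [(2, 2), (3, 1)]],
     [[(6, 1), (7, 1)], [(6, 1), (7, 2)], [(4, 1), (5, 1)], [(4, 1), (5, 2)], [(2, 1), (3, 1)], [(2, 1), (3, 2)], [(0, 1), (1, 1)], [(0, 1), (1, 2)]],
     [[(6, 2), (7, 2)], [(6, 2), (7, 1)], [(4, 1), (5, 1)], [(4, 1), (5, 2)], [(2, 2), (3, 2)], [(2, 2), (3, 1)], [(0, 1), (1, 1)], [(0, 1), (1, 2)]],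
     [[(6, 2), (7, 2)], [(6, 2), (7, 1)], [(4, 2), (5, 2)], [(4, 2), (5, 1)], [(2, 1), (3, 1)], [(2, 1), (3, 2)], [(0, 1), (1, 1)], [(0, 1), (1, 2)]],
     [[(6, 1), (7, 1)], [(6, 1), (7, 2)], [(4, 2), (5, 2)], [(4, 2), (5, 1)], [(2, 2), (3, 2)], [(2, 2), (3, 1)], [(0, 1), (1, 1)], [(0, 1), (1, 2)]],
     [[(0, 1), (1, 2)], [(0, 2), (1, 2)], [(2, 1), (3, 2)], [(2, 2), (3, 2)], [(4, 1), (5, 2)], [(4, 2), (5, 2)], [(6, 1), (7, 2)], [(6, 2), (7, 2)]],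
     [[(0, 1), (1, 2)], [(0, 2), (1, 2)], [(2, 2), (3, 1)], [(2, 1), (3, 1)], [(4, 1), (5, 2)], [(4, 2), (5, 2)], [(6, 2), (7, 1)], [(6, 1), (7, 1)]],
     [[(0, 1), (1, 2)], [(0, 2), (1, 2)], [(2, 1), (3, 2)], [(2, 2), (3, 2)], [(4, 2), (5, 1)], [(4, 1), (5, 1)], [(6, 2), (7, 1)], [(6, 1), (7, 1)]],
     [[(0, 1), (1, 2)], [(0, 2), (1, 2)], [(2, 2), (3, 1)], [(2, 1), (3, 1)], [(4, 2), (5, 1)], [(4, 1), (5, 1)], [(6, 1), (7, 2)], [(6, 2), (7, 2)]],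
     [[(2, 1), (3, 2)], [(2, 2), (3, 2)], [(0, 1), (1, 2)], [(0, 2), (1, 2)], [(6, 1), (7, 2)], [(6, 2), (7, 2)], [(4, 1), (5, 2)], [(4, 2), (5, 2)]],
     [[(2, 2), (3, 1)], [(2, 1), (3, 1)], [(0, 1), (1, 2)], [(0, 2), (1, 2)], [(6, 2), (7, 1)], [(6, 1), (7, 1)], [(4, 1), (5, 2)], [(4, 2), (5, 2)]],
     [[(2, 1), (3, 2)], [(2, 2), (3, 2)], [(0, 1), (1, 2)], [(0, 2), (1, 2)], [(6, 2), (7, 1)], [(6, 1), (7, 1)], [(4, 2), (5, 1)], [(4, 1), (5, 1)]],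
     [[(2, 2), (3, 1)], [(2, 1), (3, 1)], [(0, 1), (1, 2)], [(0, 2), (1, 2)], [(6, 1), (7, 2)], [(6, 2), (7, 2)], [(4, 2), (5, 1)], [(4, 1), (5, 1)]],
     [[(4, 1), (5, 2)], [(4, 2), (5, 2)], [(6, 1), (7, 2)], [(6, 2), (7, 2)], [(0, 1), (1, 2)], [(0, 2), (1, 2)], [(2, 1), (3, 2)], [(2, 2), (3, 2)]],
     [[(4, 1), (5, 2)], [(4, 2), (5, 2)], [(6, 2), (7, 1)], [(6, 1), (7, 1)], [(0, 1), (1, 2)], [(0, 2), (1, 2)], [(2, 2), (3, 1)], [(2, 1), (3, 1)]],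
     [[(4, 2), (5, 1)], [(4, 1), (5, 1)], [(6, 2), (7, 1)], [(6, 1), (7, 1)], [(0, 1), (1, 2)], [(0, 2), (1, 2)], [(2, 1), (3, 2)], [(2, 2), (3, 2)]],
     [[(4, 2), (5, 1)], [(4, 1), (5, 1)], [(6, 1), (7, 2)], [(6, 2), (7, 2)], [(0, 1), (1, 2)], [(0, 2), (1, 2)], [(2, 2), (3, 1)], [(2, 1), (3, 1)]],
     [[(6, 1), (7, 2)], [(6, 2), (7, 2)], [(4, 1), (5, 2)], [(4, 2), (5, 2)], [(2, 1), (3, 2)], [(2, 2), (3, 2)], [(0, 1), (1, 2)], [(0, 2), (1, 2)]],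
     [[(6, 2), (7, 1)], [(6, 1), (7, 1)], [(4, 1), (5, 2)], [(4, 2), (5, 2)], [(2, 2), (3, 1)], [(2, 1), (3, 1)], [(0, 1), (1, 2)], [(0, 2), (1, 2)]],
     [[(6, 2), (7, 1)], [(6, 1), (7, 1)], [(4, 2), (5, 1)], [(4, 1), (5, 1)], [(2, 1), (3, 2)], [(2, 2), (3, 2)], [(0, 1), (1, 2)], [(0, 2), (1, 2)]],
     [[(6, 1), (7, 2)], [(6, 2), (7, 2)], [(4, 2), (5, 1)], [(4, 1), (5, 1)], [(2, 2), (3, 1)], [(2, 1), (3, 1)], [(0, 1), (1, 2)], [(0, 2), (1, 2)]],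
     [[(0, 2)], [(1, 2)], [(2, 2)], [(3, 2)], [(4, 2)], [(5, 2)], [(6, 2)], [(7, 2)]],
     [[(0, 2)], [(1, 2)], [(2, 1)], [(3, 1)], [(4, 2)], [(5, 2)], [(6, 1)], [(7, 1)]],
     [[(0, 2)], [(1, 2)], [(2, 2)], [(3, 2)], [(4, 1)], [(5, 1)], [(6, 1)], [(7, 1)]],
     [[(0, 2)], [(1, 2)], [(2, 1)], [(3, 1)], [(4, 1)], [(5, 1)], [(6, 2)], [(7, 2)]],
     [[(2, 2)], [(3, 2)], [(0, 2)], [(1, 2)], [(6, 2)], [(7, 2)], [(4, 2)], [(5, 2)]],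
     [[(2, 1)], [(3, 1)], [(0, 2)], [(1, 2)], [(6, 1)], [(7, 1)], [(4, 2)], [(5, 2)]],
     [[(2, 2)], [(3, 2)], [(0, 2)], [(1, 2)], [(6, 1)], [(7, 1)], [(4, 1)], [(5, 1)]],
     [[(2, 1)], [(3, 1)], [(0, 2)], [(1, 2)], [(6, 2)], [(7, 2)], [(4, 1)], [(5, 1)]],
     [[(4, 2)], [(5, 2)], [(6, 2)], [(7, 2)], [(0, 2)], [(1, 2)], [(2, 2)], [(3, 2)]],
     [[(4, 2)], [(5, 2)], [(6, 1)], [(7, 1)], [(0, 2)], [(1, 2)], [(2, 1)], [(3, 1)]],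
     [[(4, 1)], [(5, 1)], [(6, 1)], [(7, 1)], [(0, 2)], [(1, 2)], [(2, 2)], [(3, 2)]],
     [[(4, 1)], [(5, 1)], [(6, 2)], [(7, 2)], [(0, 2)], [(1, 2)], [(2, 1)], [(3, 1)]],
     [[(6, 2)], [(7, 2)], [(4, 2)], [(5, 2)], [(2, 2)], [(3, 2)], [(0, 2)], [(1, 2)]],
     [[(6, 1)], [(7, 1)], [(4, 2)], [(5, 2)], [(2, 1)], [(3, 1)], [(0, 2)], [(1, 2)]],
     [[(6, 1)], [(7, 1)], [(4, 1)], [(5, 1)], [(2, 2)], [(3, 2)], [(0, 2)], [(1, 2)]],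
     [[(6, 2)], [(7, 2)], [(4, 1)], [(5, 1)], [(2, 1)], [(3, 1)], [(0, 2)], [(1, 2)]],
     [[(1, 1)], [(0, 2)], [(3, 1)], [(2, 2)], [(5, 1)], [(4, 2)], [(7, 1)], [(6, 2)]],
     [[(1, 1)], [(0, 2)], [(3, 2)], [(2, 1)], [(5, 1)], [(4, 2)], [(7, 2)], [(6, 1)]],
     [[(1, 1)], [(0, 2)], [(3, 1)], [(2, 2)], [(5, 2)], [(4, 1)], [(7, 2)], [(6, 1)]],
     [[(1, 1)], [(0, 2)], [(3, 2)], [(2, 1)], [(5, 2)], [(4, 1)], [(7, 1)], [(6, 2)]],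
     [[(3, 1)], [(2, 2)], [(1, 1)], [(0, 2)], [(7, 1)], [(6, 2)], [(5, 1)], [(4, 2)]],
     [[(3, 2)], [(2, 1)], [(1, 1)], [(0, 2)], [(7, 2)], [(6, 1)], [(5, 1)], [(4, 2)]],
     [[(3, 1)], [(2, 2)], [(1, 1)], [(0, 2)], [(7, 2)], [(6, 1)], [(5, 2)], [(4, 1)]],
     [[(3, 2)], [(2, 1)], [(1, 1)], [(0, 2)], [(7, 1)], [(6, 2)], [(5, 2)], [(4, 1)]],
     [[(5, 1)], [(4, 2)], [(7, 1)], [(6, 2)], [(1, 1)], [(0, 2)], [(3, 1)], [(2, 2)]],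
     [[(5, 1)], [(4, 2)], [(7, 2)], [(6, 1)], [(1, 1)], [(0, 2)], [(3, 2)], [(2, 1)]],
     [[(5, 2)], [(4, 1)], [(7, 2)], [(6, 1)], [(1, 1)], [(0, 2)], [(3, 1)], [(2, 2)]],
     [[(5, 2)], [(4, 1)], [(7, 1)], [(6, 2)], [(1, 1)], [(0, 2)], [(3, 2)], [(2, 1)]],
     [[(7, 1)], [(6, 2)], [(5, 1)], [(4, 2)], [(3, 1)], [(2, 2)], [(1, 1)], [(0, 2)]],
     [[(7, 2)], [(6, 1)], [(5, 1)], [(4, 2)], [(3, 2)], [(2, 1)], [(1, 1)], [(0, 2)]],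
     [[(7, 2)], [(6, 1)], [(5, 2)], [(4, 1)], [(3, 1)], [(2, 2)], [(1, 1)], [(0, 2)]],
     [[(7, 1)], [(6, 2)], [(5, 2)], [(4, 1)], [(3, 2)], [(2, 1)], [(1, 1)], [(0, 2)]],
     [[(0, 2), (1, 2)], [(0, 2), (1, 1)], [(2, 2), (3, 2)], [(2, 2), (3, 1)], [(4, 2), (5, 2)], [(4, 2), (5, 1)], [(6, 2), (7, 2)], [(6, 2), (7, 1)]],
     [[(0, 2), (1, 2)], [(0, 2), (1, 1)], [(2, 1), (3, 1)], [(2, 1), (3, 2)], [(4, 2), (5, 2)], [(4, 2), (5, 1)], [(6, 1), (7, 1)], [(6, 1), (7, 2)]],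
     [[(0, 2), (1, 2)], [(0, 2), (1, 1)], [(2, 2), (3, 2)], [(2, 2), (3, 1)], [(4, 1), (5, 1)], [(4, 1), (5, 2)], [(6, 1), (7, 1)], [(6, 1), (7, 2)]],
     [[(0, 2), (1, 2)], [(0, 2), (1, 1)], [(2, 1), (3, 1)], [(2, 1), (3, 2)], [(4, 1), (5, 1)], [(4, 1), (5, 2)], [(6, 2), (7, 2)], [(6, 2), (7, 1)]],
     [[(2, 2), (3, 2)], [(2, 2), (3, 1)], [(0, 2), (1, 2)], [(0, 2), (1, 1)], [(6, 2), (7, 2)], [(6, 2), (7, 1)], [(4, 2), (5, 2)], [(4, 2), (5, 1)]],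
     [[(2, 1), (3, 1)], [(2, 1), (3, 2)], [(0, 2), (1, 2)], [(0, 2), (1, 1)], [(6, 1), (7, 1)], [(6, 1), (7, 2)], [(4, 2), (5, 2)], [(4, 2), (5, 1)]],
     [[(2, 2), (3, 2)], [(2, 2), (3, 1)], [(0, 2), (1, 2)], [(0, 2), (1, 1)], [(6, 1), (7, 1)], [(6, 1), (7, 2)], [(4, 1), (5, 1)], [(4, 1), (5, 2)]],
     [[(2, 1), (3, 1)], [(2, 1), (3, 2)], [(0, 2), (1, 2)], [(0, 2), (1, 1)], [(6, 2), (7, 2)], [(6, 2), (7, 1)], [(4, 1), (5, 1)], [(4, 1), (5, 2)]],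
     [[(4, 2), (5, 2)], [(4, 2), (5, 1)], [(6, 2), (7, 2)], [(6, 2), (7, 1)], [(0, 2), (1, 2)], [(0, 2), (1, 1)], [(2, 2), (3, 2)], [(2, 2), (3, 1)]],
     [[(4, 2), (5, 2)], [(4, 2), (5, 1)], [(6, 1), (7, 1)], [(6, 1), (7, 2)], [(0, 2), (1, 2)], [(0, 2), (1, 1)], [(2, 1), (3, 1)], [(2, 1), (3, 2)]],
     [[(4, 1), (5, 1)], [(4, 1), (5, 2)], [(6, 1), (7, 1)], [(6, 1), (7, 2)], [(0, 2), (1, 2)], [(0, 2), (1, 1)], [(2, 2), (3, 2)], [(2, 2), (3, 1)]],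
     [[(4, 1), (5, 1)], [(4, 1), (5, 2)], [(6, 2), (7, 2)], [(6, 2), (7, 1)], [(0, 2), (1, 2)], [(0, 2), (1, 1)], [(2, 1), (3, 1)], [(2, 1), (3, 2)]],
     [[(6, 2), (7, 2)], [(6, 2), (7, 1)], [(4, 2), (5, 2)], [(4, 2), (5, 1)], [(2, 2), (3, 2)], [(2, 2), (3, 1)], [(0, 2), (1, 2)], [(0, 2), (1, 1)]],
     [[(6, 1), (7, 1)], [(6, 1), (7, 2)], [(4, 2), (5, 2)], [(4, 2), (5, 1)], [(2, 1), (3, 1)], [(2, 1), (3, 2)], [(0, 2), (1, 2)], [(0, 2), (1, 1)]],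
     [[(6, 1), (7, 1)], [(6, 1), (7, 2)], [(4, 1), (5, 1)], [(4, 1), (5, 2)], [(2, 2), (3, 2)], [(2, 2), (3, 1)], [(0, 2), (1, 2)], [(0, 2), (1, 1)]],
     [[(6, 2), (7, 2)], [(6, 2), (7, 1)], [(4, 1), (5, 1)], [(4, 1), (5, 2)], [(2, 1), (3, 1)], [(2, 1), (3, 2)], [(0, 2), (1, 2)], [(0, 2), (1, 1)]],
     [[(0, 2), (1, 1)], [(0, 1), (1, 1)], [(2, 2), (3, 1)], [(2, 1), (3, 1)], [(4, 2), (5, 1)], [(4, 1), (5, 1)], [(6, 2), (7, 1)], [(6, 1), (7, 1)]],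
     [[(0, 2), (1, 1)], [(0, 1), (1, 1)], [(2, 1), (3, 2)], [(2, 2), (3, 2)], [(4, 2), (5, 1)], [(4, 1), (5, 1)], [(6, 1), (7, 2)], [(6, 2), (7, 2)]],
     [[(0, 2), (1, 1)], [(0, 1), (1, 1)], [(2, 2), (3, 1)], [(2, 1), (3, 1)], [(4, 1), (5, 2)], [(4, 2), (5, 2)], [(6, 1), (7, 2)], [(6, 2), (7, 2)]],
     [[(0, 2), (1, 1)], [(0, 1), (1, 1)], [(2, 1), (3, 2)], [(2, 2), (3, 2)], [(4, 1), (5, 2)], [(4, 2), (5, 2)], [(6, 2), (7, 1)], [(6, 1), (7, 1)]],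
     [[(2, 2), (3, 1)], [(2, 1), (3, 1)], [(0, 2), (1, 1)], [(0, 1), (1, 1)], [(6, 2), (7, 1)], [(6, 1), (7, 1)], [(4, 2), (5, 1)], [(4, 1), (5, 1)]],
     [[(2, 1), (3, 2)], [(2, 2), (3, 2)], [(0, 2), (1, 1)], [(0, 1), (1, 1)], [(6, 1), (7, 2)], [(6, 2), (7, 2)], [(4, 2), (5, 1)], [(4, 1), (5, 1)]],
     [[(2, 2), (3, 1)], [(2, 1), (3, 1)], [(0, 2), (1, 1)], [(0, 1), (1, 1)], [(6, 1), (7, 2)], [(6, 2), (7, 2)], [(4, 1), (5, 2)], [(4, 2), (5, 2)]],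
     [[(2, 1), (3, 2)], [(2, 2), (3, 2)], [(0, 2), (1, 1)], [(0, 1), (1, 1)], [(6, 2), (7, 1)], [(6, 1), (7, 1)], [(4, 1), (5, 2)], [(4, 2), (5, 2)]],
     [[(4, 2), (5, 1)], [(4, 1), (5, 1)], [(6, 2), (7, 1)], [(6, 1), (7, 1)], [(0, 2), (1, 1)], [(0, 1), (1, 1)], [(2, 2), (3, 1)], [(2, 1), (3, 1)]],
     [[(4, 2), (5, 1)], [(4, 1), (5, 1)], [(6, 1), (7, 2)], [(6, 2), (7, 2)], [(0, 2), (1, 1)], [(0, 1), (1, 1)], [(2, 1), (3, 2)], [(2, 2), (3, 2)]],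
     [[(4, 1), (5, 2)], [(4, 2), (5, 2)], [(6, 1), (7, 2)], [(6, 2), (7, 2)], [(0, 2), (1, 1)], [(0, 1), (1, 1)], [(2, 2), (3, 1)], [(2, 1), (3, 1)]],
     [[(4, 1), (5, 2)], [(4, 2), (5, 2)], [(6, 2), (7, 1)], [(6, 1), (7, 1)], [(0, 2), (1, 1)], [(0, 1), (1, 1)], [(2, 1), (3, 2)], [(2, 2), (3, 2)]],
     [[(6, 2), (7, 1)], [(6, 1), (7, 1)], [(4, 2), (5, 1)], [(4, 1), (5, 1)], [(2, 2), (3, 1)], [(2, 1), (3, 1)], [(0, 2), (1, 1)], [(0, 1), (1, 1)]],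
     [[(6, 1), (7, 2)], [(6, 2), (7, 2)], [(4, 2), (5, 1)], [(4, 1), (5, 1)], [(2, 1), (3, 2)], [(2, 2), (3, 2)], [(0, 2), (1, 1)], [(0, 1), (1, 1)]],
     [[(6, 1), (7, 2)], [(6, 2), (7, 2)], [(4, 1), (5, 2)], [(4, 2), (5, 2)], [(2, 2), (3, 1)], [(2, 1), (3, 1)], [(0, 2), (1, 1)], [(0, 1), (1, 1)]],
     [[(6, 2), (7, 1)], [(6, 1), (7, 1)], [(4, 1), (5, 2)], [(4, 2), (5, 2)], [(2, 1), (3, 2)], [(2, 2), (3, 2)], [(0, 2), (1, 1)], [(0, 1), (1, 1)]]]⟩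

theorem minusThree_table : tableOK minusThree = true := by decide +kernel

theorem minusThree_wf : wf minusThree = true := by decide +kernel

/-- Representatives of three regular classes of minusThree. -/
def minusThreeClasses : List ℕ := [2232336, 69664, 555745282]

theorem minusThree_classes : (minusThreeClasses.all (regular minusThree) && apart minusThree 2232336 69664 &&
    apart minusThree 2232336 555745282 && apart minusThree 69664 555745282) = true := by decide +kernel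

end Cfsg.Lib.CoprimeBase.Cert
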