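import Cfsg.Agent.Lib.CoprimeBase.Kit
import Cfsg.Agent.Lib.CoprimeBase.Data.Models

/-!
The matrices of the generators of the five small models.
-/

set_option autoImplicit false
namespace Cfsg.Lib.CoprimeBase.Cert
open Tower
/-- A matrix on two coordinates. -/
def M2 (a b c d : ℕ) : ℕ → ℕ → ℕ := fun j i => if j = 0 then (if i = 0 then a else b) else (if i = 0 then c else d)
/-- A scalar matrix. -/
def dia (a : ℕ) : ℕ → ℕ → ℕ := fun j i => if j = i then a else 0
theorem five_distinct : distinctB five = true := by decide +kernel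
theorem nine_distinct : distinctB nine = true := by decide +kernel
theorem plusTwo_distinct : distinctB plusTwo = true := by decide +kernel
theorem plusThree_distinct : distinctB plusThree = true := by decide +kernel
theorem minusThree_distinct : distinctB minusThree = true := by decide +kernel
theorem five_match : List.Forall₂ (fun M o => matchB five M o = true)
  [lift 1 1 (signM 5 1) 1, lift 1 2 (signM 5 2) 0, lift 1 1 (swapM 1) 1, lift 1 2 (swapM 2) 0, lift 1 0 (dia 2) 2, lift 1 0 (dia 4) 2] five.ops := by
  simp only [five, List.forall₂_cons, List.forall₂_nil_left_iff]; decide +kernel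
theorem plusTwo_match : List.Forall₂ (fun M o => matchB plusTwo M o = true)
  [lift 1 1 (signM 3 1) 1, lift 1 2 (signM 3 2) 0, lift 1 1 (swapM 1) 1, lift 1 2 (swapM 2) 0, lift 1 0 (dia 2) 2] plusTwo.ops := by
  simp only [plusTwo, List.forall₂_cons, List.forall₂_nil_left_iff]; decide +kernel
theorem plusThree_match : List.Forall₂ (fun M o => matchB plusThree M o = true)
  [lift 1 1 (signM 3 1) 2, lift 1 2 (signM 3 2) 1, lift 1 3 (signM 3 4) 0, lift 1 1 (swapM 1) 2, lift 1 2 (swapM 2) 1, lift 1 3 (swapM 4) 0, lift 1 0 (dia 2) 3] plusThree.ops := by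
  simp only [plusThree, List.forall₂_cons, List.forall₂_nil_left_iff]; decide +kernel
theorem nine_match : List.Forall₂ (fun M o => matchB nine M o = true)
  [lift 2 1 (signM 3 2) 1, lift 2 2 (signM 3 4) 0, lift 2 1 (swapM 2) 1, lift 2 2 (swapM 4) 0, lift 2 0 (M2 0 1 1 1) 2, lift 2 0 (M2 1 1 1 2) 2, lift 2 0 (dia 2) 2] nine.ops := by
  simp only [nine, List.forall₂_cons, List.forall₂_nil_left_iff]; decide +kernel
theorem minusThree_match : List.Forall₂ (fun M o => matchB minusThree M o = true)
  [lift 2 1 (signM 3 2) 1, lift 2 2 (signM 3 4) 0, lift 2 1 (swapM 2) 1, lift 2 2 (swapM 4) 0, lift 2 0 (M2 0 2 1 0) 2, lift 2 0 (M2 1 1 1 2) 2, lift 2 0 (dia 2) 2] minusThree.ops := by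
  simp only [minusThree, List.forall₂_cons, List.forall₂_nil_left_iff]; decide +kernel
end Cfsg.Lib.CoprimeBase.Cert
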