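import Cfsg.Agent.Lib.CoprimeBase.Data.Models

/-!
A pair of vectors for the extraspecial group of minus type on eight coordinates over three elements, with the list of
the possible elements of its stabiliser.
-/

set_option autoImplicit false

namespace Cfsg.Lib.CoprimeBase.Cert

/-- The certificate. -/
def minusThreeData2 : Data :=
  ⟨34676737, 16781602, [[[(2, 2)], [(3, 2)], [(0, 2)], [(1, 2)], [(6, 2)], [(7, 2)], [(4, 2)], [(5, 2)]], [[(3, 1)], [(2, 2)], [(1, 2)], [(0, 1)], [(7, 1)], [(6, 2)], [(5, 2)], [(4, 1)]], [[(4, 1), (5, 2)], [(4, 2), (5, 2)], [(6, 1), (7, 2)], [(6, 2), (7, 2)], [(0, 2), (1, 1)], [(0, 1), (1, 1)], [(2, 2), (3, 1)], [(2, 1), (3, 1)]]],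
    [[⟨34676737, [0, 0], [1, 0, 0, 0, 0, 0, 0, 0]⟩],
    [⟨16781602, [], [1, 2, 2, 0, 0, 0, 0, 0]⟩, ⟨34676737, [1, 0], [0, 0, 0, 2, 0, 0, 0, 0]⟩, ⟨34676737, [0, 1], [0, 0, 0, 1, 0, 0, 0, 0]⟩, ⟨34676737, [1, 1], [1, 0, 0, 0, 0, 0, 0, 0]⟩],
    [⟨34676737, [2, 2], [1, 0, 0, 0, 0, 0, 0, 0]⟩, ⟨34676737, [2, 0], [0, 0, 0, 0, 0, 1, 0, 0]⟩, ⟨34676737, [2, 1], [0, 0, 0, 0, 0, 0, 2, 0]⟩, ⟨34676737, [0, 2], [0, 0, 0, 0, 0, 1, 0, 0]⟩, ⟨34676737, [1, 2], [0, 0, 0, 0, 0, 0, 1, 0]⟩]],
    [[1, 0, 1, 0, 0, 1, 2, 2], [0, 2, 0, 1, 2, 2, 2, 0], [0, 2, 0, 1, 2, 0, 2, 2], [1, 0, 1, 0, 1, 1, 0, 2], [1, 2, 0, 2, 1, 1, 1, 2], [1, 0, 2, 1, 2, 1, 2, 2], [1, 2, 2, 0, 2, 2, 2, 1], [0, 2, 1, 2, 2, 1, 2, 2]],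
    [[571604994, 304218144, 304218624, 571613184, 69922, 1057057, 16785937, 268443937], [74273, 2105634, 536879649, 33559057, 572653569, 554827808, 304160768, 286327296], [304095745, 570564896, 35790881, 270598673, 285286688, 304091394, 538051089, 35786770]],
    [[0, 2, 0, 0, 2, 0, 0, 0], [0, 1, 0, 0, 2, 0, 0, 0], [0, 1, 0, 2, 2, 0, 2, 0], [0, 2, 0, 1, 2, 0, 2, 0], [0, 2, 0, 2, 1, 0, 2, 0], [0, 1, 0, 1, 1, 0, 2, 0], [2, 2, 0, 0, 2, 2, 0, 0], [1, 1, 0, 0, 2, 2, 0, 0], [1, 2, 0, 0, 1, 2, 0, 0], [2, 1, 0, 0, 1, 2, 0, 0]]⟩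

theorem minusThreeData2_part0 : checkPart minusThree minusThreeData2 0 = true := by decide +kernel

theorem minusThreeData2_part1 : checkPart minusThree minusThreeData2 1 = true := by decide +kernel

theorem minusThreeData2_part2 : checkPart minusThree minusThreeData2 2 = true := by decide +kernel

theorem minusThreeData2_part3 : checkPart minusThree minusThreeData2 3 = true := by decide +kernel

theorem minusThreeData2_part4 : checkPart minusThree minusThreeData2 4 = true := by decide +kernel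

theorem minusThreeData2_part5 : checkPart minusThree minusThreeData2 5 = true := by decide +kernel

theorem minusThreeData2_part6 : checkPart minusThree minusThreeData2 6 = true := by decide +kernel

theorem minusThreeData2_part7 : checkPart minusThree minusThreeData2 7 = true := by decide +kernel

theorem minusThreeData2_check : checkAll minusThree minusThreeData2 8 = true :=
  checkAll_of minusThree (by decide +kernel) (by decide +kernel) fun i hi =>
    match i, hi with
    | 0, _ => minusThreeData2_part0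
    | 1, _ => minusThreeData2_part1
    | 2, _ => minusThreeData2_part2
    | 3, _ => minusThreeData2_part3
    | 4, _ => minusThreeData2_part4
    | 5, _ => minusThreeData2_part5
    | 6, _ => minusThreeData2_part6
    | 7, _ => minusThreeData2_part7
    | j + 8, h => absurd h (by omega)

theorem minusThreeData2_regular : (regular minusThree minusThreeData2.v && canonB minusThree minusThreeData2.w) = true := by decide +kernel

end Cfsg.Lib.CoprimeBase.Cert
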