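import Cfsg.Agent.Lib.CoprimeBase.Data.Models

/-!
A pair of vectors for the Pauli group on two qubits over nine elements, written over three elements, with the list of
the possible elements of its stabiliser.
-/

set_option autoImplicit false

namespace Cfsg.Lib.CoprimeBase.Cert

/-- The certificate. -/
def nineData : Data :=
  ⟨536941057, 555811360, [[[(1, 1)], [(0, 1), (1, 1)], [(3, 1)], [(2, 1), (3, 1)], [(5, 1)], [(4, 1), (5, 1)], [(7, 1)], [(6, 1), (7, 1)]], [[(0, 2), (1, 1)], [(0, 1)], [(2, 1), (3, 2)], [(2, 2)], [(4, 1), (5, 2)], [(4, 2)], [(6, 2), (7, 1)], [(6, 1)]], [[(6, 1), (7, 1)], [(6, 1), (7, 2)], [(4, 1), (5, 1)], [(4, 1), (5, 2)], [(2, 2), (3, 2)], [(2, 2), (3, 1)], [(0, 2), (1, 2)], [(0, 2), (1, 1)]]],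
    [[⟨536941057, [0, 0], [1, 1, 0, 0, 0, 0, 0, 0]⟩],
    [⟨536941057, [1, 0], [0, 0, 0, 1, 0, 0, 0, 0]⟩, ⟨536941057, [0, 1], [0, 0, 0, 1, 0, 0, 0, 0]⟩, ⟨536941057, [1, 1], [2, 2, 0, 0, 0, 0, 0, 0]⟩],
    [⟨536941057, [2, 2], [1, 0, 0, 0, 0, 0, 0, 0]⟩, ⟨555811360, [], [0, 2, 1, 0, 2, 0, 0, 0]⟩, ⟨536941057, [2, 0], [0, 0, 0, 0, 0, 1, 0, 0]⟩, ⟨536941057, [2, 1], [0, 0, 0, 0, 0, 0, 1, 0]⟩, ⟨536941057, [0, 2], [0, 0, 0, 0, 0, 1, 0, 0]⟩, ⟨536941057, [1, 2], [0, 0, 0, 0, 0, 0, 1, 0]⟩]],
    [[0, 2, 2, 2, 1, 0, 0, 1], [2, 2, 2, 1, 0, 1, 1, 1], [2, 2, 1, 2, 0, 2, 1, 1], [2, 1, 2, 0, 2, 2, 1, 2], [2, 1, 2, 0, 1, 0, 0, 2], [1, 0, 0, 2, 0, 1, 2, 2], [1, 1, 1, 2, 2, 1, 1, 0], [1, 2, 2, 0, 1, 0, 0, 1]],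
    [],
    []⟩

theorem nineData_part0 : checkPart nine nineData 0 = true := by decide +kernel

theorem nineData_part1 : checkPart nine nineData 1 = true := by decide +kernel

theorem nineData_part2 : checkPart nine nineData 2 = true := by decide +kernel

theorem nineData_part3 : checkPart nine nineData 3 = true := by decide +kernel

theorem nineData_part4 : checkPart nine nineData 4 = true := by decide +kernel

theorem nineData_part5 : checkPart nine nineData 5 = true := by decide +kernel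

theorem nineData_part6 : checkPart nine nineData 6 = true := by decide +kernel

theorem nineData_part7 : checkPart nine nineData 7 = true := by decide +kernel

theorem nineData_check : checkAll nine nineData 8 = true :=
  checkAll_of nine (by decide +kernel) (by decide +kernel) fun i hi =>
    match i, hi with
    | 0, _ => nineData_part0
    | 1, _ => nineData_part1
    | 2, _ => nineData_part2
    | 3, _ => nineData_part3
    | 4, _ => nineData_part4
    | 5, _ => nineData_part5
    | 6, _ => nineData_part6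
    | 7, _ => nineData_part7
    | j + 8, h => absurd h (by omega)

theorem nineData_regular : (regular nine nineData.v && canonB nine nineData.w) = true := by decide +kernel

end Cfsg.Lib.CoprimeBase.Cert
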